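import Groth.Agent.ProEtLib.ClosedImmBase
import Groth.Agent.S0425
import Groth.Agent.MorLib.UnivHomeo
import Mathlib

/-! inverse images along closed immersions preserve limits of abelian pro-etale sheaves -/

set_option autoImplicit false

universe u

open CategoryTheory CategoryTheory.Limits AlgebraicGeometry Opposite

noncomputable section

set_option backward.isDefEq.respectTransparency false
set_option backward.isDefEq.respectTransparency.types false

namespace Groth.Agent.ProEtLib.CI

theorem glue_ab {Y : Scheme.{u}} (G : ProEtS.AbP Y) {P : Y.ProEt} {n : ℕ} (V : Fin n → Y.ProEt)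
    (j : ∀ k, V k ⟶ P) [∀ k, IsOpenImmersion (j k).left]
    (hd : Pairwise fun k l => Disjoint (Set.range (j k).left.base) (Set.range (j l).left.base))
    (hc : ∀ x, ∃ k, x ∈ Set.range (j k).left.base) (t : ∀ k, G.obj.obj (op (V k))) :
    ∃! s, ∀ k, G.obj.map (j k).op s = t k :=
  existsUnique_glue (G.obj ⋙ forget AddCommGrpCat.{u + 1})
    ((isSheaf_iff_isSheaf_of_type _ _).1
      ((Presheaf.isSheaf_iff_isSheaf_forget (Scheme.ProEt.topology Y) G.obj (forget AddCommGrpCat.{u + 1})).1 G.2))
    (fun W hW => @subsingleton_sections_of_isEmpty Y G W hW) P V j hd hc t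

variable {Z X : Scheme.{u}} (i : Z ⟶ X) [IsClosedImmersion i]

theorem endo_eq_id (V₀ : X.ProEt) [IsAffine V₀.left]
    (hspec : ∀ x : V₀.left, ∃ y : ((ProEtS.bcP i).obj V₀).left, x ⤳ (pfst i V₀).base y)
    (a : V₀ ⟶ V₀) (h : (ProEtS.bcP i).map a = 𝟙 _) : a = 𝟙 _ := by
  haveI : WeaklyEtale V₀.hom := V₀.prop
  haveI : IsSeparated V₀.hom := by
    haveI : IsSeparated (V₀.hom ≫ terminal.from X) := by
      have e0 : V₀.hom ≫ terminal.from X = terminal.from V₀.left := terminal.hom_ext _ _
      have h1 : IsSeparated (terminal.from V₀.left) := Scheme.IsSeparated.isSeparated_terminal_from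
      exact e0.symm ▸ h1
    exact IsSeparated.of_comp V₀.hom (terminal.from X)
  let Δ := pullback.diagonal V₀.hom
  let l : V₀.left ⟶ pullback V₀.hom V₀.hom :=
    pullback.lift a.left (𝟙 _) ((MorphismProperty.Over.w a).trans (Category.id_comp _).symm)
  let e := pullback.fst l Δ
  haveI : WeaklyEtale Δ := by
    haveI : WeaklyEtale (Δ ≫ pullback.fst V₀.hom V₀.hom) := by
      rw [pullback.diagonal_fst]; exact MorphismProperty.id_mem _ _
    exact WeaklyEtale.of_comp Δ (pullback.fst V₀.hom V₀.hom)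
  haveI : WeaklyEtale e := MorphismProperty.pullback_fst _ _ ‹_›
  haveI : IsClosedImmersion e := MorphismProperty.pullback_fst _ _ (IsSeparated.isClosedImmersion_diagonal (f := V₀.hom))
  have hab : pfst i V₀ ≫ a.left = pfst i V₀ := by
    have h' := congrArg (fun q => q.left ≫ pfst i V₀) h
    simp only [bcP_map_fst, MorphismProperty.Comma.id_left] at h'
    exact h'.trans (Category.id_comp _)
  let c : ((ProEtS.bcP i).obj V₀).left ⟶ pullback l Δ := pullback.lift (pfst i V₀) (pfst i V₀) (by
    refine pullback.hom_ext ?_ ?_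
    · simp [l, Δ, hab]
    · simp [l, Δ])
  have hc : c ≫ e = pfst i V₀ := pullback.lift_fst _ _ _
  haveI : Surjective e := ⟨fun x => by
    obtain ⟨y, hy⟩ := hspec x
    rw [← hc, Scheme.Hom.comp_apply] at hy
    obtain ⟨t, -, ht⟩ := Flat.generalizingMap e hy
    exact ⟨t, ht⟩⟩
  haveI : UniversallyInjective e :=
    ((tfae_universallyInjective e).out 0 1 rfl rfl).mpr fun K _ p q hpq => (cancel_mono e).mp hpq
  haveI : IsIso e := S0425.result e (MorLib.isUnivHomeo_of_universallyClosed e)
  refine MorphismProperty.Over.Hom.ext ?_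
  have h0 := congrArg (· ≫ pullback.fst V₀.hom V₀.hom) (pullback.condition (f := l) (g := Δ))
  have h1 := congrArg (· ≫ pullback.snd V₀.hom V₀.hom) (pullback.condition (f := l) (g := Δ))
  simp only [l, Δ, Category.assoc, pullback.lift_fst, pullback.lift_snd, pullback.diagonal_fst,
    pullback.diagonal_snd, Category.comp_id] at h0 h1
  refine (cancel_epi e).mp ((h0.trans h1.symm).trans ?_)
  exact (Category.comp_id e).symm

variable [ProEtS.PCont i] (C : ProEtS.AbP X)

/-- the canonical map from sections over `V` to sections of the inverse image -/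
abbrev uSec {V : X.ProEt} (x : C.obj.obj (op V)) :
    ((ProEtS.pullP i).obj C).obj.obj (op ((ProEtS.bcP i).obj V)) :=
  ((ProEtS.pullPushAdjP i).unit.app C).hom.app (op V) x

theorem uSec_map {V V' : X.ProEt} (c : V' ⟶ V) (x : C.obj.obj (op V)) :
    ((ProEtS.pullP i).obj C).obj.map ((ProEtS.bcP i).map c).op (uSec i C x) = uSec i C (C.obj.map c.op x) :=
  (NatTrans.naturality_apply ((ProEtS.pullPushAdjP i).unit.app C).hom c.op x).symm

/-- comparison of the inverse image with the sheafified left Kan extension -/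
abbrev pullIso : ((ProEtS.pullP i).obj C).obj ≅
    sheafify (Scheme.ProEt.topology Z) ((ProEtS.bcP i).op.leftKanExtension C.obj) :=
  (sheafToPresheaf _ _).mapIso ((Functor.sheafPullbackConstruction.sheafPullbackIso (ProEtS.bcP i)
    AddCommGrpCat.{u + 1} (Scheme.ProEt.topology X) (Scheme.ProEt.topology Z)).app C)

theorem pullIso_uSec {V : X.ProEt} (x : C.obj.obj (op V)) :
    (pullIso i C).hom.app (op ((ProEtS.bcP i).obj V)) (uSec i C x) =
      (toSheafify (Scheme.ProEt.topology Z) ((ProEtS.bcP i).op.leftKanExtension C.obj)).app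
        (op ((ProEtS.bcP i).obj V))
        (((ProEtS.bcP i).op.leftKanExtensionUnit C.obj).app (op V) x) := by
  have h := Adjunction.unit_leftAdjointUniq_hom_app
    ((ProEtS.bcP i).sheafAdjunctionContinuous AddCommGrpCat.{u + 1} (Scheme.ProEt.topology X) (Scheme.ProEt.topology Z))
    (Functor.sheafPullbackConstruction.sheafAdjunctionContinuous (ProEtS.bcP i) AddCommGrpCat.{u + 1}
      (Scheme.ProEt.topology X) (Scheme.ProEt.topology Z)) C
  have h' := congrArg (fun φ => φ.hom.app (op V) x) h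
  refine h'.trans ?_
  simp [Functor.sheafPullbackConstruction.sheafAdjunctionContinuous, Adjunction.map_restrictFullyFaithful_unit_app]
  rfl

/-- every section of the inverse image comes locally from sections upstairs -/
theorem exists_uSec {T : Z.ProEt} (s : ((ProEtS.pullP i).obj C).obj.obj (op T)) :
    ∃ R ∈ Scheme.ProEt.topology Z T, ∀ ⦃W⦄ (f : W ⟶ T), R.arrows f →
      ∃ (V : X.ProEt) (b : W ⟶ (ProEtS.bcP i).obj V) (x : C.obj.obj (op V)),
        ((ProEtS.pullP i).obj C).obj.map b.op (uSec i C x) = ((ProEtS.pullP i).obj C).obj.map f.op s := by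
  let L := (ProEtS.bcP i).op.leftKanExtension C.obj
  let φ := toSheafify (Scheme.ProEt.topology Z) L
  let e := pullIso i C
  refine ⟨Presheaf.imageSieve φ (e.hom.app (op T) s),
    Presheaf.imageSieve_mem (Scheme.ProEt.topology Z) φ _, fun W f ⟨t, ht⟩ => ?_⟩
  have : RepresentablyFlat (ProEtS.bcP i) := flat_of_preservesFiniteLimits _
  haveI : PreservesFilteredColimitsOfSize.{u, u + 1} (forget AddCommGrpCat.{u + 1}) :=
    preservesFilteredColimitsOfSize_shrink.{u + 1, u + 1, u, u + 1} _
  haveI : PreservesColimitsOfShape (CostructuredArrow (ProEtS.bcP i).op (op W)) (forget AddCommGrpCat.{u + 1}) :=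
    PreservesFilteredColimitsOfSize.preserves_filtered_colimits _
  obtain ⟨g, x, rfl⟩ := Concrete.isColimit_exists_rep (CostructuredArrow.proj (ProEtS.bcP i).op (op W) ⋙ C.obj)
    ((ProEtS.bcP i).op.isPointwiseLeftKanExtensionLeftKanExtensionUnit C.obj (op W)) t
  refine ⟨g.left.unop, g.hom.unop, x,
    (ConcreteCategory.bijective_of_isIso (e.hom.app (op W))).1 ?_⟩
  rw [NatTrans.naturality_apply e.hom, NatTrans.naturality_apply e.hom, pullIso_uSec]
  refine Eq.trans ?_ ht
  exact (NatTrans.naturality_apply φ g.hom _).symm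

/-- a section killed by the inverse image is killed by a sieve covering `Z` -/
theorem uSec_eq_zero {V : X.ProEt} (x : C.obj.obj (op V)) (h : uSec i C x = 0) :
    (Presheaf.equalizerSieve (F := C.obj) (X := op V) x 0).functorPushforward (ProEtS.bcP i) ∈
      Scheme.ProEt.topology Z ((ProEtS.bcP i).obj V) := by
  let L := (ProEtS.bcP i).op.leftKanExtension C.obj
  let y : L.obj (op ((ProEtS.bcP i).obj V)) :=
    ((ProEtS.bcP i).op.leftKanExtensionUnit C.obj).app (op V) x
  refine GrothendieckTopology.superset_covering _ ?_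
    (Presheaf.equalizerSieve_mem (Scheme.ProEt.topology Z) (toSheafify (Scheme.ProEt.topology Z) L) (X := op ((ProEtS.bcP i).obj V)) y 0 ?_)
  · intro T f hf
    obtain ⟨V', b', c, hb, hc⟩ := exists_of_lan_zero i C.obj f x (hf.trans (map_zero _))
    exact ⟨V', c, b', hc.trans (map_zero _).symm, hb.symm⟩
  · rw [← pullIso_uSec, h, map_zero, map_zero]

theorem bijective_uSec {V₀ : X.ProEt} (hV : IsBase i V₀) :
    Function.Bijective (uSec i C (V := V₀)) := by
  obtain ⟨haff, hW, hspec, hlift⟩ := hV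
  let W := (ProEtS.bcP i).obj V₀
  let G := (ProEtS.pullP i).obj C
  have hopen : ∀ {n : ℕ} (O : Fin n → W.left.Opens) (k : Fin n), IsOpenImmersion (opHom W (O k)).left :=
    fun O k => inferInstanceAs (IsOpenImmersion (O k).ι)
  constructor
  · refine (injective_iff_map_eq_zero (((ProEtS.pullPushAdjP i).unit.app C).hom.app (op V₀)).hom).2 fun x hx => ?_
    obtain ⟨n, O, -, hd, hcov, hO⟩ := hW _ (uSec_eq_zero i C x hx)
    have hc : ∀ w, ∃ k, w ∈ O k := fun w => Set.mem_iUnion.1 (hcov.symm ▸ Set.mem_univ w)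
    choose V c b hcx hb using hO
    obtain ⟨S, j, hj, hdj, hcj⟩ := exists_sigma V
    haveI := hj
    obtain ⟨m, hm, -⟩ := existsUnique_glue (yoneda.obj V₀)
      (GrothendieckTopology.Subcanonical.isSheaf_of_isRepresentable _)
      (fun _ hZ => ⟨fun p q => MorphismProperty.Over.Hom.ext (isInitialOfIsEmpty.hom_ext _ _)⟩) S V j hdj hcj c
    obtain ⟨β, hβ, -⟩ := glue_hom W O hd hc _ fun k => b k ≫ (ProEtS.bcP i).map (j k)
    have hβm : β ≫ (ProEtS.bcP i).map m = 𝟙 W := by
      refine (glue_hom W O hd hc W fun k => opHom W (O k)).unique (fun k => ?_) fun k => Category.comp_id _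
      rw [← Category.assoc, hβ k, Category.assoc, ← Functor.map_comp, show j k ≫ m = c k from hm k]
      exact (hb k).symm
    have hx0 : C.obj.map m.op x = 0 := by
      refine (glue_ab C V j hdj hcj fun _ => 0).unique (fun k => ?_) fun k => map_zero _
      rw [← ConcreteCategory.comp_apply, ← Functor.map_comp, ← op_comp, show j k ≫ m = c k from hm k]
      exact (hcx k).trans (map_zero _)
    obtain ⟨g, hg⟩ := hlift S β
    have hgm : g ≫ m = 𝟙 V₀ := endo_eq_id i V₀ hspec _ (by rw [Functor.map_comp, hg, hβm])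
    have := congrArg (C.obj.map g.op) hx0
    rw [← ConcreteCategory.comp_apply, ← Functor.map_comp, ← op_comp, hgm, map_zero] at this
    simpa using this
  · intro s
    obtain ⟨R, hR, hRs⟩ := exists_uSec i C s
    obtain ⟨n, O, -, hd, hcov, hO⟩ := hW R hR
    have hc : ∀ w, ∃ k, w ∈ O k := fun w => Set.mem_iUnion.1 (hcov.symm ▸ Set.mem_univ w)
    choose V b x hx using fun k => hRs _ (hO k)
    obtain ⟨S, j, hj, hdj, hcj⟩ := exists_sigma V
    haveI := hj
    obtain ⟨y, hy, -⟩ := glue_ab C V j hdj hcj x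
    obtain ⟨β, hβ, -⟩ := glue_hom W O hd hc _ fun k => b k ≫ (ProEtS.bcP i).map (j k)
    obtain ⟨g, hg⟩ := hlift S β
    refine ⟨C.obj.map g.op y, ?_⟩
    haveI := hopen O
    refine (glue_ab G (fun k => opObj W (O k)) (fun k => opHom W (O k))
      (fun k l hkl => by
        show Disjoint (Set.range (O k).ι.base) (Set.range (O l).ι.base)
        rw [Scheme.Opens.range_ι, Scheme.Opens.range_ι]
        exact hd hkl)
      (fun w => (hc w).imp fun k hk => ⟨⟨w, hk⟩, rfl⟩) fun k => G.obj.map (opHom W (O k)).op s).unique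
      (fun k => ?_) fun k => rfl
    show G.obj.map (opHom W (O k)).op (uSec i C (C.obj.map g.op y)) = _
    rw [← uSec_map, hg, ← ConcreteCategory.comp_apply, ← Functor.map_comp, ← op_comp, hβ k, op_comp,
      Functor.map_comp, ConcreteCategory.comp_apply, uSec_map, hy k, hx k]

theorem preservesLimits (J : Type u) [SmallCategory J] : PreservesLimitsOfShape J (ProEtS.pullP i) := by
  haveI : HasLimitsOfSize.{u, u} (ProEtS.AbP X) := hasLimitsOfSizeShrink.{u, u, u + 1, u + 1} _
  haveI : HasLimitsOfSize.{u, u} (ProEtS.AbP Z) := hasLimitsOfSizeShrink.{u, u, u + 1, u + 1} _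
  refine ⟨fun {D} => ?_⟩
  suffices IsIso (limit.post D (ProEtS.pullP i)) from preservesLimit_of_isIso_post _ _
  let ev : ∀ {Y : Scheme.{u}}, Y.ProEt → ProEtS.AbP Y ⥤ AddCommGrpCat.{u + 1} := fun W =>
    sheafToPresheaf _ _ ⋙ (evaluation _ _).obj (op W)
  have hbij : ∀ V₀, IsBase i V₀ → IsIso ((ev ((ProEtS.bcP i).obj V₀)).map (limit.post D (ProEtS.pullP i))) := by
    intro V₀ hV
    let η : ev V₀ ⟶ ProEtS.pullP i ⋙ ev ((ProEtS.bcP i).obj V₀) :=
      { app := fun C => ((ProEtS.pullPushAdjP i).unit.app C).hom.app (op V₀)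
        naturality := fun C C' φ => congrArg (fun ψ => ψ.hom.app (op V₀)) ((ProEtS.pullPushAdjP i).unit.naturality φ) }
    haveI : ∀ C, IsIso (η.app C) := fun C =>
      (ConcreteCategory.isIso_iff_bijective _).2 (bijective_uSec i C hV)
    haveI : IsIso η := NatIso.isIso_of_isIso_app η
    haveI : PreservesLimit D (ProEtS.pullP i ⋙ ev ((ProEtS.bcP i).obj V₀)) :=
      preservesLimit_of_natIso D (asIso η)
    haveI : IsIso (limit.post D (ProEtS.pullP i ⋙ ev ((ProEtS.bcP i).obj V₀))) :=
      inferInstanceAs (IsIso (preservesLimitIso (ProEtS.pullP i ⋙ ev ((ProEtS.bcP i).obj V₀)) D).hom)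
    haveI : IsIso (limit.post (D ⋙ ProEtS.pullP i) (ev ((ProEtS.bcP i).obj V₀))) :=
      inferInstanceAs (IsIso (preservesLimitIso (ev ((ProEtS.bcP i).obj V₀)) (D ⋙ ProEtS.pullP i)).hom)
    exact IsIso.of_isIso_fac_right (limit.post_post D (ProEtS.pullP i) (ev ((ProEtS.bcP i).obj V₀)))
  let φ := limit.post D (ProEtS.pullP i)
  have hb : ∀ {W T : Z.ProEt} (f : W ⟶ T),
      (∃ V₀, IsBase i V₀ ∧ Nonempty (W ≅ (ProEtS.bcP i).obj V₀)) → Function.Bijective (φ.hom.app (op W)) := by
    rintro W T f ⟨V₀, hV, ⟨ew⟩⟩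
    haveI : IsIso (φ.hom.app (op ((ProEtS.bcP i).obj V₀))) := hbij V₀ hV
    haveI : IsIso (φ.hom.app (op W)) := (NatTrans.isIso_app_iff_of_iso φ.hom ew.op).1 inferInstance
    exact ConcreteCategory.bijective_of_isIso (φ.hom.app (op W))
  rw [← Sheaf.isLocallyBijective_iff_isIso (f := φ)]
  refine ⟨⟨fun {T} a b hab => ?_⟩, ⟨fun {T} s => ?_⟩⟩
  · refine GrothendieckTopology.superset_covering _ ?_ (isBase_covers i T.unop)
    rintro W f ⟨W', c, g, hg, rfl⟩
    refine Sieve.downward_closed _ ((hb g hg).1 ?_) c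
    rw [NatTrans.naturality_apply φ.hom, NatTrans.naturality_apply φ.hom, hab]
  · refine GrothendieckTopology.superset_covering _ ?_ (isBase_covers i T)
    rintro W f ⟨W', c, g, hg, rfl⟩
    exact Sieve.downward_closed _ ((hb g hg).2 _) c

end Groth.Agent.ProEtLib.CI
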