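import Groth.Agent.ProEtLib.OpenClosed
import Groth.Agent.ProEtLib.ClosedImmLimits
import Mathlib

/-! extension by zero along quasi-compact open immersions preserves limits -/

set_option autoImplicit false

universe u

open CategoryTheory CategoryTheory.Limits AlgebraicGeometry Opposite

noncomputable section

set_option backward.isDefEq.respectTransparency false
set_option backward.isDefEq.respectTransparency.types false

namespace Groth.Agent.ProEtLib.CI

theorem isIso_of_isZero' {C : Type*} [Category C] {A B : C} (f : A ⟶ B) (hA : IsZero A) (hB : IsZero B) :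
    IsIso f :=
  ⟨hB.to_ A, hA.eq_of_src _ _, hB.eq_of_src _ _⟩

theorem isIso_of_pull_restr {X Z U : Scheme.{u}} (i : Z ⟶ X) [IsClosedImmersion i]
    (j : U ⟶ X) [IsOpenImmersion j] [QuasiCompact j] (hc : Set.range j.base = (Set.range i.base)ᶜ)
    [ProEtS.JPCont j] [ProEtS.PCont i] {A B : ProEtS.AbP X} (φ : A ⟶ B)
    [IsIso ((ProEtS.pullP i).map φ)] [IsIso ((ProEtS.restrP j).map φ)] : IsIso φ := by
  haveI := pullP_preservesFiniteLimits i
  haveI : (ProEtS.pullP i).IsLeftAdjoint := (ProEtS.pullPushAdjP i).isLeftAdjoint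
  haveI : PreservesFiniteColimits (ProEtS.pullP i) := inferInstance
  haveI := (restrP_exact j).1
  haveI := (restrP_exact j).2
  haveI : (ProEtS.pullP i).Additive := Functor.additive_of_preserves_binary_products _
  haveI : (ProEtS.restrP j).Additive := Functor.additive_of_preserves_binary_products _
  haveI : Mono φ := by
    refine Preadditive.mono_of_kernel_zero ((isZero_of_pull_of_restr i j hc _ ?_ ?_).eq_of_src (kernel.ι φ) 0)
    · refine IsZero.of_mono_eq_zero ((ProEtS.pullP i).map (kernel.ι φ)) ?_
      rw [← cancel_mono ((ProEtS.pullP i).map φ), ← Functor.map_comp, kernel.condition, Functor.map_zero, zero_comp]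
    · refine IsZero.of_mono_eq_zero ((ProEtS.restrP j).map (kernel.ι φ)) ?_
      rw [← cancel_mono ((ProEtS.restrP j).map φ), ← Functor.map_comp, kernel.condition, Functor.map_zero, zero_comp]
  haveI : Epi φ := by
    refine Preadditive.epi_of_cokernel_zero ((isZero_of_pull_of_restr i j hc _ ?_ ?_).eq_of_tgt (cokernel.π φ) 0)
    · refine IsZero.of_epi_eq_zero ((ProEtS.pullP i).map (cokernel.π φ)) ?_
      rw [← cancel_epi ((ProEtS.pullP i).map φ), ← Functor.map_comp, cokernel.condition, Functor.map_zero, comp_zero]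
    · refine IsZero.of_epi_eq_zero ((ProEtS.restrP j).map (cokernel.π φ)) ?_
      rw [← cancel_epi ((ProEtS.restrP j).map φ), ← Functor.map_comp, cokernel.condition, Functor.map_zero, comp_zero]
  exact isIso_of_mono_of_epi φ

theorem extZeroP_preservesLimits {U X : Scheme.{u}} (j : U ⟶ X)
    [IsOpenImmersion j] [QuasiCompact j] [ProEtS.JPCont j] (J : Type u) [SmallCategory J] :
    PreservesLimitsOfShape J (ProEtS.extZeroP j) := by
  let c : TopologicalSpace.Closeds X := ⟨(Set.range j.base)ᶜ, j.isOpenEmbedding.isOpen_range.isClosed_compl⟩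
  let I := Scheme.IdealSheafData.vanishingIdeal c
  let i := I.subschemeι
  have hc : Set.range j.base = (Set.range i.base)ᶜ := by
    rw [show Set.range i.base = (I.support : Set X) from I.range_subschemeι]
    simp [I, c]
  haveI : ProEtS.PCont i := pCont i
  haveI : ProEtS.PCont j := pCont j
  haveI : HasLimitsOfSize.{u, u} (ProEtS.AbP X) := hasLimitsOfSizeShrink.{u, u, u + 1, u + 1} _
  haveI : HasLimitsOfSize.{u, u} (ProEtS.AbP U) := hasLimitsOfSizeShrink.{u, u, u + 1, u + 1} _
  haveI : HasLimitsOfSize.{u, u} (ProEtS.AbP I.subscheme) := hasLimitsOfSizeShrink.{u, u, u + 1, u + 1} _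
  refine ⟨fun {D} => ?_⟩
  let E := ProEtS.extZeroP j
  let P := ProEtS.pullP i
  let R := ProEtS.restrP j
  haveI := preservesLimits i J
  haveI : R.IsRightAdjoint := (ProEtS.extZeroPAdj j).isRightAdjoint
  haveI : PreservesLimitsOfSize.{u, u} R := inferInstance
  haveI : PreservesLimitsOfShape J R := inferInstance
  haveI : PreservesLimit (D ⋙ E) R := inferInstance
  haveI : PreservesLimit D (E ⋙ R) := by
    haveI : ∀ G, IsIso ((ProEtS.extZeroPAdj j).unit.app G) := fun G => (S0742.result j G G).1
    haveI : IsIso (ProEtS.extZeroPAdj j).unit := NatIso.isIso_of_isIso_app _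
    exact preservesLimit_of_natIso D (asIso (ProEtS.extZeroPAdj j).unit)
  haveI : IsIso (R.map (limit.post D E)) := by
    haveI : IsIso (limit.post D (E ⋙ R)) := inferInstanceAs (IsIso (preservesLimitIso (E ⋙ R) D).hom)
    haveI : IsIso (limit.post (D ⋙ E) R) := inferInstanceAs (IsIso (preservesLimitIso R (D ⋙ E)).hom)
    exact IsIso.of_isIso_fac_right (limit.post_post D E R)
  haveI : IsIso (P.map (limit.post D E)) := by
    refine isIso_of_isZero' _ (isZero_pull_ext i j hc _) ?_
    let hl := isLimitOfPreserves P (limit.isLimit (D ⋙ E))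
    refine (IsZero.iff_id_eq_zero _).2 (hl.hom_ext fun a => ?_)
    exact (isZero_pull_ext i j hc (D.obj a)).eq_of_tgt _ _
  haveI := isIso_of_pull_restr i j hc (limit.post D E)
  exact preservesLimit_of_isIso_post _ _

end Groth.Agent.ProEtLib.CI
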