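import Groth.Agent.ProEtLib.EpsExt
import Groth.Prelude.Def_WeakSerre

/-! weak Serre subcategories of etale sheaves give weak Serre subcategories of pro-etale sheaves -/

set_option autoImplicit false

universe u

open CategoryTheory CategoryTheory.Limits AlgebraicGeometry Opposite Abelian

noncomputable section

set_option backward.isDefEq.respectTransparency false
set_option backward.isDefEq.respectTransparency.types false

namespace Groth.Agent.ProEtLib

variable {X : Scheme.{u}} [ProEtS.EpsCont X]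

theorem exists_preimage_of_extension {S : ShortComplex (ProEtS.AbP X)} (hS : S.ShortExact)
    (A B : EtCoh.Ab X) (a : (ProEtS.epsPull X).obj A ≅ S.X₁) (b : (ProEtS.epsPull X).obj B ≅ S.X₃) :
    ∃ T : ShortComplex (EtCoh.Ab X), T.ShortExact ∧ Nonempty (T.X₁ ≅ A) ∧ Nonempty (T.X₃ ≅ B) ∧
      Nonempty ((ProEtS.epsPull X).obj T.X₂ ≅ S.X₂) := by
  have := preservesFiniteLimits_epsPull (X := X)
  have := isIso_unit_eps (X := X)
  have : IsIso (ProEtS.epsAdj X).unit := NatIso.isIso_of_isIso_app _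
  have hff := (ProEtS.epsAdj X).fullyFaithfulLOfIsIsoUnit
  let ε := ProEtS.epsPull X
  haveI := hS.mono_f
  haveI := hS.epi_g
  let ι := Injective.ι A
  let π := cokernel.π ι
  have hQ : (ShortComplex.mk ι π (cokernel.condition ι)).ShortExact :=
    { exact := ShortComplex.exact_of_g_is_cokernel _ (cokernelIsCokernel _) }
  have hz : ∀ x : Ext S.X₃ (ε.obj (Injective.under A)) 1, x = 0 := fun x => by
    have h := ext_epsPull_eq_zero (Injective.under A) B 0 ((Ext.mk₀ b.hom).comp x (zero_add 1))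
    have h' := congrArg (fun y => (Ext.mk₀ b.inv).comp y (zero_add 1)) h
    simpa using h'
  obtain ⟨x₂, hx₂⟩ := Ext.contravariant_sequence_exact₁ hS (Y := ε.obj (Injective.under A))
    (Ext.mk₀ (a.inv ≫ ε.map ι)) (n₁ := 1) rfl (hz _)
  obtain ⟨h, rfl⟩ := Ext.homEquiv₀.symm.surjective x₂
  have hh : S.f ≫ h = a.inv ≫ ε.map ι := Ext.homEquiv₀.symm.injective (by simpa using hx₂)
  let k := hS.gIsCokernel.desc (CokernelCofork.ofπ (h ≫ ε.map π) (by
    rw [reassoc_of% hh, ← ε.map_comp, cokernel.condition, ε.map_zero, comp_zero]))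
  have hk : S.g ≫ k = h ≫ ε.map π := hS.gIsCokernel.fac _ WalkingParallelPair.one
  let k₀ := hff.preimage (b.hom ≫ k)
  have hk₀ : ε.map k₀ = b.hom ≫ k := hff.map_preimage _
  let T : ShortComplex (EtCoh.Ab X) :=
    ShortComplex.mk (pullback.lift ι (0 : A ⟶ B) (by rw [cokernel.condition, zero_comp]) : A ⟶ pullback π k₀)
      (pullback.snd π k₀) (pullback.lift_snd _ _ _)
  have hT : T.ShortExact := by
    haveI : Mono (pullback.lift ι (0 : A ⟶ B) (by rw [cokernel.condition, zero_comp]) : A ⟶ pullback π k₀) :=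
      mono_of_mono_fac (pullback.lift_fst _ _ _)
    refine { exact := ShortComplex.exact_of_f_is_kernel _ (KernelFork.IsLimit.ofι' _ _ fun {W} t ht => ?_) }
    have h0 : (t ≫ pullback.fst π k₀) ≫ π = 0 := by
      rw [Category.assoc, pullback.condition, reassoc_of% ht, zero_comp]
    refine ⟨hQ.fIsKernel.lift (KernelFork.ofι _ h0), pullback.hom_ext ?_ ?_⟩
    · rw [Category.assoc, pullback.lift_fst]
      exact hQ.fIsKernel.fac (KernelFork.ofι _ h0) WalkingParallelPair.zero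
    · rw [Category.assoc, pullback.lift_snd, comp_zero, ht]
  have hP := IsPullback.map ε (IsPullback.of_hasPullback π k₀)
  let l : S.X₂ ⟶ ε.obj T.X₂ := hP.lift h (S.g ≫ b.inv) (by
    rw [hk₀, Category.assoc, Iso.inv_hom_id_assoc, hk])
  have hε : (T.map ε).ShortExact := shortExact_epsPull hT
  let φ : S ⟶ T.map ε :=
    { τ₁ := a.inv
      τ₂ := l
      τ₃ := b.inv
      comm₁₂ := hP.hom_ext
        (by
          show (a.inv ≫ ε.map T.f) ≫ ε.map (pullback.fst π k₀) = (S.f ≫ l) ≫ _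
          rw [Category.assoc, ← ε.map_comp, pullback.lift_fst, Category.assoc, hP.lift_fst, hh])
        (by
          show (a.inv ≫ ε.map T.f) ≫ ε.map (pullback.snd π k₀) = (S.f ≫ l) ≫ _
          rw [Category.assoc, ← ε.map_comp, pullback.lift_snd, ε.map_zero, comp_zero, Category.assoc, hP.lift_snd,
            reassoc_of% S.zero, zero_comp])
      comm₂₃ := hP.lift_snd _ _ _ }
  haveI : IsIso φ.τ₁ := inferInstanceAs (IsIso a.inv)
  haveI : IsIso φ.τ₃ := inferInstanceAs (IsIso b.inv)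
  haveI : IsIso l := ShortComplex.isIso₂_of_shortExact_of_isIso₁₃ φ hS hε
  exact ⟨T, hT, ⟨Iso.refl _⟩, ⟨Iso.refl _⟩, ⟨(asIso l).symm⟩⟩

theorem isWeakSerre_essImage (S : ObjectProperty (EtCoh.Ab X)) [WSerre.IsWeakSerre S] :
    WSerre.IsWeakSerre (fun F : ProEtS.AbP X => ∃ G : EtCoh.Ab X, S G ∧ Nonempty ((ProEtS.epsPull X).obj G ≅ F)) := by
  have := preservesFiniteLimits_epsPull (X := X)
  have := isIso_unit_eps (X := X)
  have : IsIso (ProEtS.epsAdj X).unit := NatIso.isIso_of_isIso_app _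
  have hff := (ProEtS.epsAdj X).fullyFaithfulLOfIsIsoUnit
  let ε := ProEtS.epsPull X
  haveI : ε.Additive := Functor.additive_of_preserves_binary_products _
  haveI : ObjectProperty.ContainsZero (fun F : ProEtS.AbP X => ∃ G : EtCoh.Ab X, S G ∧ Nonempty (ε.obj G ≅ F)) := by
    obtain ⟨Z, hZ, hSZ⟩ := S.exists_prop_of_containsZero
    exact ⟨⟨ε.obj Z, ε.map_isZero hZ, Z, hSZ, ⟨Iso.refl _⟩⟩⟩
  haveI : ObjectProperty.IsClosedUnderExtensions
      (fun F : ProEtS.AbP X => ∃ G : EtCoh.Ab X, S G ∧ Nonempty (ε.obj G ≅ F)) := by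
    refine ⟨fun {E} hE h₁ h₃ => ?_⟩
    obtain ⟨A, hA, ⟨a⟩⟩ := h₁
    obtain ⟨B, hB, ⟨b⟩⟩ := h₃
    obtain ⟨T, hT, ⟨a'⟩, ⟨b'⟩, e⟩ := exists_preimage_of_extension hE A B a b
    exact ⟨T.X₂, S.prop_X₂_of_shortExact hT (S.prop_of_iso a'.symm hA) (S.prop_of_iso b'.symm hB), e⟩
  haveI : ObjectProperty.IsClosedUnderKernels
      (fun F : ProEtS.AbP X => ∃ G : EtCoh.Ab X, S G ∧ Nonempty (ε.obj G ≅ F)) := by
    refine ⟨fun F hF => ?_⟩
    obtain ⟨f, k, hk, ⟨A, hA, ⟨a⟩⟩, ⟨B, hB, ⟨b⟩⟩⟩ := hF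
    let g := hff.preimage (a.hom ≫ f ≫ b.inv)
    refine ⟨kernel g, S.prop_of_isLimit_kernelFork (k := KernelFork.ofι (kernel.ι g) (kernel.condition g)) (kernelIsKernel g) hA hB,
      ⟨PreservesKernel.iso ε g ≪≫ kernel.mapIso (ε.map g) f a b
        (by rw [hff.map_preimage]; simp) ≪≫ (limit.isLimit _).conePointUniqueUpToIso hk⟩⟩
  haveI : ObjectProperty.IsClosedUnderCokernels
      (fun F : ProEtS.AbP X => ∃ G : EtCoh.Ab X, S G ∧ Nonempty (ε.obj G ≅ F)) := by
    refine ⟨fun F hF => ?_⟩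
    obtain ⟨f, k, hk, ⟨A, hA, ⟨a⟩⟩, ⟨B, hB, ⟨b⟩⟩⟩ := hF
    let g := hff.preimage (a.hom ≫ f ≫ b.inv)
    haveI : PreservesColimitsOfSize.{0, 0} ε := (ProEtS.epsAdj X).leftAdjoint_preservesColimits
    refine ⟨cokernel g, S.prop_of_isColimit_cokernelCofork (k := CokernelCofork.ofπ (cokernel.π g) (cokernel.condition g)) (cokernelIsCokernel g) hA hB,
      ⟨PreservesCokernel.iso ε g ≪≫ cokernel.mapIso (ε.map g) f a b
        (by rw [hff.map_preimage]; simp) ≪≫ (colimit.isColimit _).coconePointUniqueUpToIso hk⟩⟩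
  exact ⟨⟩

end Groth.Agent.ProEtLib
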