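import Groth.Agent.ProEtLib.Detect
import Groth.Agent.S0742
import Groth.Agent.SiteBase.LanExactLarge
import Mathlib

/-! the open-closed short exact sequence on the pro-etale site -/

set_option autoImplicit false

universe u

open CategoryTheory CategoryTheory.Limits AlgebraicGeometry Opposite

noncomputable section

set_option backward.isDefEq.respectTransparency false
set_option backward.isDefEq.respectTransparency.types false

namespace Groth.Agent.ProEtLib.CI

variable {X Z U : Scheme.{u}} (i : Z ⟶ X) [IsClosedImmersion i]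
  (j : U ⟶ X) [IsOpenImmersion j] (hc : Set.range j.base = (Set.range i.base)ᶜ)

include hc in
theorem retrocompact [QuasiCompact j] : IsRetrocompact (Set.range i.base)ᶜ := fun V hV hVo => by
  rw [← hc, Set.inter_comm, ← Set.image_preimage_eq_inter_range]
  exact (hV.preimage_of_isOpen j.isSpectralMap hVo).image j.continuous

include hc in
theorem isEmpty_bc_comp (W : U.ProEt) : IsEmpty ((ProEtS.bcP i).obj ((ProEtS.compP j).obj W)).left := by
  refine ⟨fun w => ?_⟩
  have h := congrArg (fun q => q.base w) (pullback.condition (f := W.hom ≫ j) (g := i))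
  simp only [Scheme.Hom.comp_apply] at h
  exact (hc.le ⟨W.hom.base ((pullback.fst (W.hom ≫ j) i).base w), rfl⟩) ⟨_, h.symm⟩

variable [ProEtS.JPCont j] [ProEtS.PCont i]

include hc in
theorem isZero_restr_push (P : ProEtS.AbP Z) : IsZero ((ProEtS.restrP j).obj ((ProEtS.pushP i).obj P)) :=
  isZero_of_sections _ fun W =>
    @subsingleton_sections_of_isEmpty Z P _ (isEmpty_bc_comp i j hc W)

include hc in
omit [ProEtS.PCont i] in
theorem subsingleton_of_restr {C : ProEtS.AbP X} (h : IsZero ((ProEtS.restrP j).obj C)) (W : X.ProEt)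
    (hW : IsEmpty ((ProEtS.bcP i).obj W).left) : Subsingleton (C.obj.obj (op W)) := by
  have hr : Set.range W.hom.base ⊆ Set.range j.base := by
    rintro _ ⟨w, rfl⟩
    rw [hc]
    rintro ⟨z, hz⟩
    obtain ⟨t, -⟩ := Scheme.Pullback.exists_preimage_pullback (f := W.hom) (g := i) w z hz.symm
    exact hW.false t
  let l := IsOpenImmersion.lift j W.hom hr
  haveI : WeaklyEtale W.hom := W.prop
  haveI : WeaklyEtale (l ≫ j) := (IsOpenImmersion.lift_fac j W.hom hr).symm ▸ ‹WeaklyEtale W.hom›
  haveI : WeaklyEtale l := WeaklyEtale.of_comp l j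
  let W' : U.ProEt := Scheme.ProEt.mk l
  let e : (ProEtS.compP j).obj W' ≅ W :=
    MorphismProperty.Over.isoMk (Iso.refl W.left) ((Category.id_comp _).trans (IsOpenImmersion.lift_fac j W.hom hr).symm)
  haveI : Subsingleton (C.obj.obj (op ((ProEtS.compP j).obj W'))) := subsingleton_of_isZero h W'
  exact (C.obj.mapIso e.op).addCommGroupIsoToAddEquiv.toEquiv.subsingleton

include hc in
theorem isZero_of_pull_of_restr [QuasiCompact j] (C : ProEtS.AbP X)
    (h₁ : IsZero ((ProEtS.pullP i).obj C)) (h₂ : IsZero ((ProEtS.restrP j).obj C)) : IsZero C :=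
  isZero_of_pull_of_empty i (retrocompact i j hc) C h₁ fun W hW => subsingleton_of_restr i j hc h₂ W hW

include hc in
theorem isZero_pull_ext (G : ProEtS.AbP U) : IsZero ((ProEtS.pullP i).obj ((ProEtS.extZeroP j).obj G)) := by
  rw [IsZero.iff_id_eq_zero]
  exact ((ProEtS.pullPushAdjP i).homEquiv _ _).injective (((ProEtS.extZeroPAdj j).homEquiv _ _).injective
    ((isZero_restr_push i j hc _).eq_of_tgt _ _))

omit [IsOpenImmersion j] [IsClosedImmersion i] in
theorem pullP_preservesFiniteLimits : PreservesFiniteLimits (ProEtS.pullP i) :=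
  SiteBase.Large.preservesFiniteLimits_sheafPullback (ProEtS.bcP i) _ _

theorem restrP_exact : PreservesFiniteLimits (ProEtS.restrP j) ∧ PreservesFiniteColimits (ProEtS.restrP j) := by
  haveI : ProEtS.PCont j := pCont j
  let adjP : ProEtS.restrP j ⊣ ProEtS.pushP j :=
    (MorphismProperty.Over.mapPullbackAdj (@WeaklyEtale) ⊤ j inferInstance trivial : ProEtS.compP j ⊣ ProEtS.bcP j)
      |>.sheafPushforwardContinuous (E := AddCommGrpCat.{u + 1}) (Scheme.ProEt.topology U) (Scheme.ProEt.topology X)
  haveI : (ProEtS.restrP j).IsRightAdjoint := (ProEtS.extZeroPAdj j).isRightAdjoint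
  haveI : (ProEtS.restrP j).IsLeftAdjoint := adjP.isLeftAdjoint
  exact ⟨inferInstance, inferInstance⟩

theorem isIso_restr_counit (F : ProEtS.AbP X) :
    IsIso ((ProEtS.restrP j).map ((ProEtS.extZeroPAdj j).counit.app F)) := by
  haveI : ProEtS.PCont j := pCont j
  haveI := (S0742.result j ((ProEtS.restrP j).obj F) ((ProEtS.restrP j).obj F)).1
  exact IsIso.of_isIso_fac_left ((ProEtS.extZeroPAdj j).right_triangle_components F)

theorem isIso_pull_unit (F : ProEtS.AbP X) :
    IsIso ((ProEtS.pullP i).map ((ProEtS.pullPushAdjP i).unit.app F)) := by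
  haveI := isIso_counit i ((ProEtS.pullP i).obj F)
  refine @IsIso.of_isIso_fac_right _ _ _ _ _ _ _ _ _ ?_ ((ProEtS.pullPushAdjP i).left_triangle_components F)
  exact IsIso.id _

include hc in
theorem shortExact [QuasiCompact j] (F : ProEtS.AbP X) :
    ∃ h : (ProEtS.extZeroPAdj j).counit.app F ≫ (ProEtS.pullPushAdjP i).unit.app F = 0,
      (ShortComplex.mk _ _ h).ShortExact := by
  let adjE := ProEtS.extZeroPAdj j
  let adjI := ProEtS.pullPushAdjP i
  have h : adjE.counit.app F ≫ adjI.unit.app F = 0 :=
    (adjE.homEquiv _ _).injective ((isZero_restr_push i j hc _).eq_of_tgt _ _)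
  refine ⟨h, ?_⟩
  haveI := pullP_preservesFiniteLimits i
  haveI : (ProEtS.pullP i).IsLeftAdjoint := adjI.isLeftAdjoint
  haveI : PreservesFiniteColimits (ProEtS.pullP i) := inferInstance
  haveI : (ProEtS.pullP i).Additive := Functor.additive_of_preserves_binary_products _
  haveI := (restrP_exact j).1
  haveI := (restrP_exact j).2
  haveI : (ProEtS.restrP j).Additive := Functor.additive_of_preserves_binary_products _
  let ε := adjE.counit.app F
  let η := adjI.unit.app F
  haveI := isIso_restr_counit j F
  haveI := isIso_pull_unit i F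
  have h₁ : IsZero ((ProEtS.pullP i).obj ((ProEtS.extZeroP j).obj ((ProEtS.restrP j).obj F))) := isZero_pull_ext i j hc _
  have h₃ : IsZero ((ProEtS.restrP j).obj ((ProEtS.pushP i).obj ((ProEtS.pullP i).obj F))) := isZero_restr_push i j hc _
  haveI : Mono ε := by
    refine Preadditive.mono_of_kernel_zero ((isZero_of_pull_of_restr i j hc _ ?_ ?_).eq_of_src (kernel.ι ε) 0)
    · exact IsZero.of_mono ((ProEtS.pullP i).map (kernel.ι ε)) h₁
    · refine IsZero.of_mono_eq_zero ((ProEtS.restrP j).map (kernel.ι ε)) ?_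
      rw [← cancel_mono ((ProEtS.restrP j).map ε), ← Functor.map_comp, kernel.condition, Functor.map_zero, zero_comp]
  haveI : Epi η := by
    refine Preadditive.epi_of_cokernel_zero ((isZero_of_pull_of_restr i j hc _ ?_ ?_).eq_of_tgt (cokernel.π η) 0)
    · refine IsZero.of_epi_eq_zero ((ProEtS.pullP i).map (cokernel.π η)) ?_
      rw [← cancel_epi ((ProEtS.pullP i).map η), ← Functor.map_comp, cokernel.condition, Functor.map_zero, comp_zero]
    · exact IsZero.of_epi ((ProEtS.restrP j).map (cokernel.π η)) h₃
  let S := ShortComplex.mk ε η h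
  have hex : S.Exact := by
    rw [ShortComplex.exact_iff_isZero_homology]
    refine isZero_of_pull_of_restr i j hc _ ?_ ?_
    · refine IsZero.of_iso ?_ (S.mapHomologyIso (ProEtS.pullP i)).symm
      refine ShortComplex.exact_iff_isZero_homology _ |>.1 ?_
      rw [ShortComplex.exact_iff_mono _ (h₁.eq_of_src _ _)]
      exact (inferInstance : Mono ((ProEtS.pullP i).map η))
    · refine IsZero.of_iso ?_ (S.mapHomologyIso (ProEtS.restrP j)).symm
      refine ShortComplex.exact_iff_isZero_homology _ |>.1 ?_
      rw [ShortComplex.exact_iff_epi _ (h₃.eq_of_tgt _ _)]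
      exact (inferInstance : Epi ((ProEtS.restrP j).map ε))
  exact { exact := hex }

end Groth.Agent.ProEtLib.CI
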