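import Groth.Agent.SiteBase.LanExactLarge
import Groth.Agent.SiteBase.LerayTop
import Groth.Prelude.Def_ProEtS
import Mathlib

/-! restriction from the big to the small pro-etale site -/

set_option autoImplicit false

universe u

open CategoryTheory CategoryTheory.Limits AlgebraicGeometry Opposite

noncomputable section

set_option backward.isDefEq.respectTransparency false
set_option backward.isDefEq.respectTransparency.types false

namespace Groth.Agent.ProEtLib.Big

theorem injective_restr {T S : Scheme.{u}} (f : T ⟶ S)
    [(Scheme.ProEt.forget T ⋙ Over.map f).IsContinuous (Scheme.ProEt.topology T)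
      (Scheme.proetaleTopology.over S)]
    (I : Sheaf (Scheme.proetaleTopology.over S) AddCommGrpCat.{u + 1}) [Injective I] :
    Injective (((Scheme.ProEt.forget T ⋙ Over.map f).sheafPushforwardContinuous AddCommGrpCat.{u + 1}
      (Scheme.ProEt.topology T) (Scheme.proetaleTopology.over S)).obj I) := by
  haveI : PreservesLimitsOfShape WalkingCospan (Over.map f ⋙ Over.forget S) :=
    inferInstanceAs (PreservesLimitsOfShape WalkingCospan (Over.forget T))
  haveI : PreservesLimitsOfShape WalkingParallelPair (Over.map f ⋙ Over.forget S) :=
    inferInstanceAs (PreservesLimitsOfShape WalkingParallelPair (Over.forget T))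
  haveI : PreservesLimitsOfShape WalkingCospan (Over.map f) :=
    preservesLimitsOfShape_of_reflects_of_preserves _ (Over.forget S)
  haveI : PreservesLimitsOfShape WalkingParallelPair (Over.map f) :=
    preservesLimitsOfShape_of_reflects_of_preserves _ (Over.forget S)
  haveI := SiteBase.Large.preservesFiniteLimits_sheafPullback (Scheme.ProEt.forget T ⋙ Over.map f)
    (Scheme.ProEt.topology T) (Scheme.proetaleTopology.over S)
  exact Injective.injective_of_adjoint ((Scheme.ProEt.forget T ⋙ Over.map f).sheafAdjunctionContinuous
    AddCommGrpCat.{u + 1} (Scheme.ProEt.topology T) (Scheme.proetaleTopology.over S)) I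

variable (S : Scheme.{u})

theorem isCocontinuous_forget :
    (Scheme.ProEt.forget S).IsCocontinuous (Scheme.ProEt.topology S) (Scheme.proetaleTopology.over S) := by
  haveI : (Scheme.ProEt.forget S).IsContinuous
      ((Scheme.ProEt.forget S).restrictedTopology (Scheme.proetaleTopology.over S))
      (Scheme.proetaleTopology.over S) := by
    rw [Functor.isContinuous_iff_coverPreserving]
    exact (Scheme.ProEt.forget S).coverPreserving_restrictedTopology _
  rw [Scheme.ProEt.topology_eq_inducedTopology, ← Functor.restrictedTopology_eq_inducedTopology]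
  infer_instance

theorem restr_exact :
    PreservesFiniteLimits ((Scheme.ProEt.forget S).sheafPushforwardContinuous AddCommGrpCat.{u + 1}
      (Scheme.ProEt.topology S) (Scheme.proetaleTopology.over S)) ∧
    PreservesFiniteColimits ((Scheme.ProEt.forget S).sheafPushforwardContinuous AddCommGrpCat.{u + 1}
      (Scheme.ProEt.topology S) (Scheme.proetaleTopology.over S)) := by
  haveI := isCocontinuous_forget S
  haveI := ((Scheme.ProEt.forget S).sheafAdjunctionContinuous AddCommGrpCat.{u + 1}
      (Scheme.ProEt.topology S) (Scheme.proetaleTopology.over S)).isRightAdjoint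
  haveI := ((Scheme.ProEt.forget S).sheafAdjunctionCocontinuous AddCommGrpCat.{u + 1}
      (Scheme.ProEt.topology S) (Scheme.proetaleTopology.over S)).isLeftAdjoint
  exact ⟨inferInstance, inferInstance⟩

theorem isIso_unit (F : ProEtS.AbP S) : IsIso (((Scheme.ProEt.forget S).sheafAdjunctionContinuous AddCommGrpCat.{u + 1}
      (Scheme.ProEt.topology S) (Scheme.proetaleTopology.over S)).unit.app F) := by
  haveI := isCocontinuous_forget S
  let t : CategoryTheory.Adjunction.Triple
      ((Scheme.ProEt.forget S).sheafPullback AddCommGrpCat.{u + 1}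
        (Scheme.ProEt.topology S) (Scheme.proetaleTopology.over S))
      ((Scheme.ProEt.forget S).sheafPushforwardContinuous AddCommGrpCat.{u + 1}
        (Scheme.ProEt.topology S) (Scheme.proetaleTopology.over S))
      ((Scheme.ProEt.forget S).sheafPushforwardCocontinuous AddCommGrpCat.{u + 1}
        (Scheme.ProEt.topology S) (Scheme.proetaleTopology.over S)) :=
    ⟨(Scheme.ProEt.forget S).sheafAdjunctionContinuous AddCommGrpCat.{u + 1}
      (Scheme.ProEt.topology S) (Scheme.proetaleTopology.over S),
     (Scheme.ProEt.forget S).sheafAdjunctionCocontinuous AddCommGrpCat.{u + 1}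
      (Scheme.ProEt.topology S) (Scheme.proetaleTopology.over S)⟩
  haveI : IsIso t.adj₂.counit := by
    haveI : ∀ G, IsIso (t.adj₂.counit.app G) := fun G => by
      apply +allowSynthFailures Functor.ReflectsIsomorphisms.reflects (sheafToPresheaf _ _)
      show IsIso (((Scheme.ProEt.forget S).sheafAdjunctionCocontinuous AddCommGrpCat.{u + 1}
        (Scheme.ProEt.topology S) (Scheme.proetaleTopology.over S)).counit.app G).hom
      rw [Functor.sheafAdjunctionCocontinuous_counit_app_hom]
      infer_instance
    exact NatIso.isIso_of_isIso_app _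
  haveI : IsIso t.adj₁.unit := t.isIso_unit_iff_isIso_counit.2 inferInstance
  exact inferInstanceAs (IsIso (t.adj₁.unit.app F))

theorem result_7296
    [((Scheme.ProEt.forget S).sheafPushforwardContinuous AddCommGrpCat.{u + 1} (Scheme.ProEt.topology S)
      (Scheme.proetaleTopology.over S)).Additive]
    [HasInjectiveResolutions (Sheaf (Scheme.proetaleTopology.over S) AddCommGrpCat.{u + 1})]
    (F : ProEtS.AbP S) :
    IsIso (((Scheme.ProEt.forget S).sheafAdjunctionContinuous AddCommGrpCat.{u + 1}
      (Scheme.ProEt.topology S) (Scheme.proetaleTopology.over S)).unit.app F) ∧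
    ∀ q : ℕ, 0 < q →
      IsZero ((((Scheme.ProEt.forget S).sheafPushforwardContinuous AddCommGrpCat.{u + 1}
        (Scheme.ProEt.topology S) (Scheme.proetaleTopology.over S)).rightDerived q).obj
        (((Scheme.ProEt.forget S).sheafPullback AddCommGrpCat.{u + 1} (Scheme.ProEt.topology S)
          (Scheme.proetaleTopology.over S)).obj F)) := by
  obtain ⟨_, _⟩ := restr_exact S
  refine ⟨isIso_unit S F, fun q hq => ?_⟩
  obtain ⟨k, rfl⟩ := Nat.exists_eq_succ_of_ne_zero hq.ne'
  exact LerayDegen.isZero_rightDerived_of_exact _ _ _

end Groth.Agent.ProEtLib.Big
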