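import Groth.Agent.ProEtLib.TopInv
import Groth.Agent.Hensel.HenzQuotInd
import Mathlib

/-! pro-etale sheaves and closed immersions: henselian lifts -/

set_option autoImplicit false

universe u

open CategoryTheory CategoryTheory.Limits AlgebraicGeometry Opposite

noncomputable section

set_option backward.isDefEq.respectTransparency false
set_option backward.isDefEq.respectTransparency.types false

namespace Groth.Agent.ProEtLib.CI

theorem isPushout_quotient {O T : Type u} [CommRing O] [CommRing T] (ρ : O →+* T) (J : Ideal O) :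
    IsPushout (CommRingCat.ofHom (Ideal.Quotient.mk J)) (CommRingCat.ofHom ρ)
      (CommRingCat.ofHom (Ideal.quotientMap (J.map ρ) ρ Ideal.le_comap_map))
      (CommRingCat.ofHom (Ideal.Quotient.mk (J.map ρ))) := by
  refine IsPushout.of_isColimit' ⟨by ext x; rfl⟩ (PushoutCocone.isColimitAux' _ fun s => ?_)
  have hker : ∀ x ∈ J.map ρ, s.inr.hom x = 0 := by
    refine fun x hx => (Ideal.map_le_iff_le_comap (K := RingHom.ker s.inr.hom)).2 (fun j hj => ?_) hx
    show s.inr.hom (ρ j) = 0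
    have h := congrArg (fun f => f.hom j) s.condition
    simp only [CommRingCat.hom_comp, CommRingCat.hom_ofHom, RingHom.comp_apply,
      Ideal.Quotient.eq_zero_iff_mem.2 hj, map_zero] at h
    exact h.symm
  refine ⟨CommRingCat.ofHom (Ideal.Quotient.lift _ s.inr.hom hker), ?_, ?_, fun {m} _ h2 => ?_⟩
  · ext x
    exact (congrArg (fun f => f.hom x) s.condition).symm
  · ext x; rfl
  · refine CommRingCat.hom_ext (RingHom.ext fun x => ?_)
    obtain ⟨x, rfl⟩ := Ideal.Quotient.mk_surjective (x : T ⧸ J.map ρ)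
    exact congrArg (fun f => f.hom x) h2


/-- ring maps out of ind-etale algebras lift to henselizations -/
theorem exists_henz_lift {A A₁ : CommRingCat.{u}} (σ : A₁ ⟶ A) (K : Type u) [CommRing K] [Algebra A K]
    {B : CommRingCat.{u}} (χ : A₁ ⟶ B) (hB : letI := χ.hom.toAlgebra; EtPBC.IsIndEtale A₁ B)
    (f : B ⟶ CommRingCat.of K) (hf : χ ≫ f = σ ≫ CommRingCat.ofHom (algebraMap A K)) :
    ∃ g : B ⟶ CommRingCat.of (Hensel.Henz A K),
      χ ≫ g = σ ≫ CommRingCat.ofHom (algebraMap A (Hensel.Henz A K)) ∧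
      g ≫ CommRingCat.ofHom (Hensel.Henz.proj A K).toRingHom = f := by
  letI := χ.hom.toAlgebra
  obtain ⟨J, _, _, D, c, hc, hD, ⟨ec⟩⟩ := hB
  letI algA : Algebra A₁ A := σ.hom.toAlgebra
  letI algD : ∀ j, Algebra A₁ (D.obj j).right := fun j => (D.obj j).hom.hom.toAlgebra
  haveI := hD
  let ep : c.pt.right ≅ B := (Under.forget A₁).mapIso ec
  have hep : c.pt.hom ≫ ep.hom = χ := Under.w ec.hom
  let F : ∀ j, (D.obj j).right ⟶ CommRingCat.of K := fun j => (c.ι.app j).right ≫ ep.hom ≫ f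
  have hF : ∀ j, (D.obj j).hom ≫ F j = σ ≫ CommRingCat.ofHom (algebraMap A K) := fun j => by
    have h1 : (D.obj j).hom ≫ (c.ι.app j).right = c.pt.hom := Under.w (c.ι.app j)
    simp only [F]
    rw [reassoc_of% h1, reassoc_of% hep, hf]
  letI algK : Algebra A₁ K := ((algebraMap A K).comp σ.hom).toAlgebra
  haveI : IsScalarTower A₁ A K := IsScalarTower.of_algebraMap_eq fun _ => rfl
  let Fa : ∀ j, (D.obj j).right →ₐ[A₁] K := fun j =>
    { (F j).hom with commutes' := fun a => congrArg (fun q => q.hom a) (hF j) }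
  let τ : ∀ j, TensorProduct A₁ A (D.obj j).right →ₐ[A] K := fun j =>
    Algebra.TensorProduct.lift (Algebra.ofId A K) (Fa j) fun _ _ => .all _ _
  choose N eN hN using fun j => Hensel.Nbhd.exists_equiv (R := A) (TensorProduct A₁ A (D.obj j).right) (τ j)
  letI algH : Algebra A₁ (Hensel.Henz A K) := ((algebraMap A (Hensel.Henz A K)).comp σ.hom).toAlgebra
  haveI : IsScalarTower A₁ A (Hensel.Henz A K) := IsScalarTower.of_algebraMap_eq fun _ => rfl
  let G : ∀ j, TensorProduct A₁ A (D.obj j).right →ₐ[A] Hensel.Henz A K := fun j =>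
    (Hensel.Henz.ofB (N j)).comp (eN j).symm.toAlgHom
  let μ : ∀ j, (D.obj j).right ⟶ CommRingCat.of (Hensel.Henz A K) := fun j =>
    CommRingCat.ofHom ((G j).toRingHom.comp (Algebra.TensorProduct.includeRight (R := A₁) (A := A)).toRingHom)
  let s : Cocone D :=
    { pt := Under.mk (σ ≫ CommRingCat.ofHom (algebraMap A (Hensel.Henz A K)))
      ι :=
        { app := fun j => Under.homMk (μ j) (by
            ext a
            show G j (Algebra.TensorProduct.includeRight (algebraMap A₁ (D.obj j).right a)) =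
              algebraMap A (Hensel.Henz A K) (σ.hom a)
            rw [AlgHom.commutes, IsScalarTower.algebraMap_apply A₁ A (TensorProduct A₁ A (D.obj j).right),
              AlgHom.commutes]
            rfl)
          naturality := fun j k φ => by
            apply Under.UnderMorphism.ext
            let Dφ : (D.obj j).right →ₐ[A₁] (D.obj k).right :=
              { (D.map φ).right.hom with commutes' := fun a => congrArg (fun q => q.hom a) (Under.w (D.map φ)) }
            let T := Algebra.TensorProduct.map (AlgHom.id A A) Dφ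
            let α : (N j).B →ₐ[A] (N k).B := ((eN k).symm.toAlgHom.comp T).comp (eN j).toAlgHom
            have hcomm : (τ k).comp T = τ j := by
              refine Algebra.TensorProduct.ext' fun a d => ?_
              simp only [T, τ, AlgHom.comp_apply, Algebra.TensorProduct.map_tmul, Algebra.TensorProduct.lift_tmul,
                AlgHom.id_apply]
              refine congrArg (Algebra.ofId A K a * ·) ?_
              show (F k).hom ((D.map φ).right.hom d) = (F j).hom d
              have h2 := congrArg CommaMorphism.right (c.w φ)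
              simp only [F]
              rw [← c.w φ]
              rfl
            have hα : (N k).toK.comp α = (N j).toK := by
              rw [hN k, hN j, ← hcomm]
              ext y
              simp [α]
            show (D.map φ).right ≫ μ k = μ j ≫ 𝟙 _
            rw [Category.comp_id]
            ext d
            show G k (Algebra.TensorProduct.includeRight (Dφ d)) = G j (Algebra.TensorProduct.includeRight d)
            simp only [G, AlgHom.comp_apply]
            rw [← Hensel.Henz.ofB_comp α hα]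
            simp [α, T] } }
  refine ⟨ep.inv ≫ (hc.desc s).right, ?_, ?_⟩
  · rw [← hep, Category.assoc, Iso.hom_inv_id_assoc]
    exact Under.w (hc.desc s)
  · refine (cancel_epi ep.hom).mp ?_
    simp only [Category.assoc, Iso.hom_inv_id_assoc]
    refine (isColimitOfPreserves (Under.forget A₁) hc).hom_ext fun j => ?_
    show (c.ι.app j).right ≫ (hc.desc s).right ≫ _ = (c.ι.app j).right ≫ _
    have h3 : (c.ι.app j).right ≫ (hc.desc s).right = μ j := congrArg CommaMorphism.right (hc.fac s j)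
    rw [reassoc_of% h3]
    ext d
    show Hensel.Henz.proj A K (G j (Algebra.TensorProduct.includeRight d)) = (F j).hom d
    simp only [G, AlgHom.comp_apply]
    rw [Hensel.Henz.proj_ofB, hN j]
    simp [τ]
    rfl

variable {Z X : Scheme.{u}} (i : Z ⟶ X) [IsClosedImmersion i]

theorem exists_chart {A : CommRingCat.{u}} (k : Spec A ⟶ X) [IsOpenImmersion k] :
    ∃ (I : Ideal A) (k' : Spec (CommRingCat.of (A ⧸ I)) ⟶ Z), IsOpenImmersion k' ∧
      IsPullback k' (Spec.map (CommRingCat.ofHom (Ideal.Quotient.mk I))) i k := by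
  obtain ⟨I, e, he⟩ := (IsClosedImmersion.Spec_iff (f := pullback.snd i k)).1 inferInstance
  refine ⟨I, e.inv ≫ pullback.fst i k, inferInstance, ?_⟩
  refine (IsPullback.of_hasPullback i k).of_iso e (Iso.refl _) (Iso.refl _) (Iso.refl _) ?_ ?_ (by simp) (by simp)
  · simp
  · rw [he]; simp

/-- henselization lifts ind-etale objects over `Z` -/
theorem exists_henz_obj {A : CommRingCat.{u}} (k : Spec A ⟶ X) [IsOpenImmersion k] {I : Ideal A}
    (k' : Spec (CommRingCat.of (A ⧸ I)) ⟶ Z)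
    (sq : IsPullback k' (Spec.map (CommRingCat.ofHom (Ideal.Quotient.mk I))) i k)
    {K : CommRingCat.{u}} (ψ : CommRingCat.of (A ⧸ I) ⟶ K)
    (hind : letI := ψ.hom.toAlgebra; EtPBC.IsIndEtale (A ⧸ I) K) :
    ∃ (V₀ : X.ProEt) (e : ((ProEtS.bcP i).obj V₀).left ≅ Spec K),
      ((ProEtS.bcP i).obj V₀).hom = e.hom ≫ Spec.map ψ ≫ k' ∧ IsAffine V₀.left ∧
      Set.range V₀.hom.base ⊆ Set.range k.base ∧
      (∀ x : V₀.left, ∃ y : ((ProEtS.bcP i).obj V₀).left, x ⤳ (pfst i V₀).base y) ∧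
      ∀ (P : X.ProEt) (A₁ B₁ : CommRingCat.{u}) (k₁ : Spec A₁ ⟶ X) (χ₁ : A₁ ⟶ B₁) (e₁ : P.left ≅ Spec B₁),
        IsOpenImmersion k₁ → P.hom = e₁.hom ≫ Spec.map χ₁ ≫ k₁ →
        (letI := χ₁.hom.toAlgebra; EtPBC.IsIndEtale A₁ B₁) → Set.range k.base ⊆ Set.range k₁.base →
        ∀ m : (ProEtS.bcP i).obj V₀ ⟶ (ProEtS.bcP i).obj P, ∃ g₁ : V₀ ⟶ P, (ProEtS.bcP i).map g₁ = m := by
  letI algI : Algebra (A ⧸ I) K := ψ.hom.toAlgebra
  letI algA : Algebra A K := (ψ.hom.comp (Ideal.Quotient.mk I)).toAlgebra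
  haveI : IsScalarTower A (A ⧸ I) K := IsScalarTower.of_algebraMap_eq fun _ => rfl
  obtain ⟨hker, hsurj⟩ := Hensel.henz_quotient A I K hind
  let C := CommRingCat.of (Hensel.Henz A K)
  let χ : A ⟶ C := CommRingCat.ofHom (algebraMap A (Hensel.Henz A K))
  let π : C ⟶ K := CommRingCat.ofHom (Hensel.Henz.proj A K).toRingHom
  haveI : Algebra.WeaklyEtale A (Hensel.Henz A K) := S0736.result _ _ (Hensel.isIndEtale_henz A K)
  haveI : WeaklyEtale (Spec.map χ) := weaklyEtale_spec A (Hensel.Henz A K)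
  have sqC : IsPullback (Spec.map π) (Spec.map ψ) (Spec.map χ) (Spec.map (CommRingCat.ofHom (Ideal.Quotient.mk I))) := by
    let εr : (Hensel.Henz A K ⧸ I.map (algebraMap A (Hensel.Henz A K))) ≃+* K :=
      (Ideal.quotEquivOfEq (by ext z; exact (hker z).symm)).trans
        (RingHom.quotientKerEquivOfSurjective (f := (Hensel.Henz.proj A K).toRingHom) hsurj)
    let ε : CommRingCat.of (Hensel.Henz A K ⧸ I.map (algebraMap A (Hensel.Henz A K))) ≅ K := εr.toCommRingCatIso
    have h := isPushout_quotient (algebraMap A (Hensel.Henz A K)) I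
    have h' : IsPushout (CommRingCat.ofHom (Ideal.Quotient.mk I)) χ ψ π := by
      refine h.of_iso (Iso.refl _) (Iso.refl _) (Iso.refl _) ε ?_ ?_ ?_ ?_
      · simp
      · simp [χ]
      · ext a
        show Hensel.Henz.proj A K (algebraMap A _ a) = ψ.hom (Ideal.Quotient.mk I a)
        rw [AlgHom.commutes]
        rfl
      · ext z; rfl
    exact (isPullback_SpecMap_of_isPushout _ _ _ _ h').flip
  let V₀ : X.ProEt := Scheme.ProEt.mk (Spec.map χ ≫ k)
  have sq2 : IsPullback (Spec.map π) (Spec.map ψ ≫ k') (Spec.map χ ≫ k) i := sqC.paste_vert sq.flip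
  refine ⟨V₀, sq2.isoPullback.symm, (IsPullback.isoPullback_inv_snd sq2).symm, inferInstanceAs (IsAffine (Spec C)),
    (Set.range_subset_iff.2 fun x => ⟨(Spec.map χ).base x, (Scheme.Hom.comp_apply _ _ _).symm⟩), ?_, ?_⟩
  · intro (x : PrimeSpectrum (Hensel.Henz A K))
    obtain ⟨mx, hmx, hle⟩ := Ideal.exists_le_maximal x.asIdeal x.isPrime.ne_top
    have hker : RingHom.ker (Hensel.Henz.proj A K).toRingHom ≤ mx := fun z hz => by
      by_contra hzm
      obtain ⟨c, n, hn, hcn⟩ := hmx.exists_inv hzm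
      have : IsUnit n := Hensel.Henz.isUnit_iff.mpr (by
        have h1 := congrArg (Hensel.Henz.proj A K) hcn
        rw [map_add, map_mul, show Hensel.Henz.proj A K z = 0 from hz, mul_zero, zero_add, map_one] at h1
        rw [h1]; exact isUnit_one)
      exact hmx.ne_top (Ideal.eq_top_of_isUnit_mem _ hn this)
    let xm : Spec C := (⟨mx, hmx.isPrime⟩ : PrimeSpectrum (Hensel.Henz A K))
    obtain ⟨y, hy⟩ : xm ∈ Set.range (Spec.map π).base :=
      (range_comap_of_surjective _ π.hom hsurj).ge hker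
    refine ⟨sq2.isoPullback.hom.base y, ?_⟩
    have hy' : (pfst i V₀).base (sq2.isoPullback.hom.base y) = xm :=
      (Scheme.Hom.comp_apply _ _ _).symm.trans ((congrArg (fun q => q.base y) sq2.isoPullback_hom_fst).trans hy)
    rw [hy']
    exact (PrimeSpectrum.le_iff_specializes x ⟨mx, hmx.isPrime⟩).1 hle
  · intro P A₁ B₁ k₁ χ₁ e₁ hk₁ hP hind₁ hr m
    let s : Spec K ⟶ Spec B₁ := sq2.isoPullback.hom ≫ m.left ≫ pullback.fst P.hom i ≫ e₁.hom
    let l := IsOpenImmersion.lift k₁ k hr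
    obtain ⟨σ, hσ⟩ := Spec.map_surjective l
    obtain ⟨f, hf⟩ := Spec.map_surjective s
    have hmw : m.left ≫ pullback.snd P.hom i = pullback.snd (Spec.map χ ≫ k) i := MorphismProperty.Over.w m
    have hs : s ≫ Spec.map χ₁ ≫ k₁ = Spec.map (CommRingCat.ofHom (algebraMap A K)) ≫ k := by
      simp only [s, Category.assoc, ← hP, pullback.condition]
      rw [reassoc_of% hmw, sq2.isoPullback_hom_snd_assoc, Category.assoc, sq.w]
      rw [← Spec.map_comp_assoc]
      rfl
    have hfc : χ₁ ≫ f = σ ≫ CommRingCat.ofHom (algebraMap A K) := by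
      refine Spec.map_injective ((cancel_mono k₁).mp ?_)
      rw [Spec.map_comp, Category.assoc, hf, hs, Spec.map_comp, Category.assoc, hσ]
      simp [l]
    obtain ⟨g₁, hg₁, hg₁'⟩ := exists_henz_lift σ K χ₁ hind₁ f hfc
    let q : V₀ ⟶ P := MorphismProperty.Over.homMk (Spec.map g₁ ≫ e₁.inv) (by
      show (Spec.map g₁ ≫ e₁.inv) ≫ P.hom = Spec.map χ ≫ k
      rw [hP, Category.assoc, Iso.inv_hom_id_assoc, ← Spec.map_comp_assoc, hg₁, Spec.map_comp, Category.assoc, hσ]
      simp [l, χ])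
    refine ⟨q, MorphismProperty.Over.Hom.ext (pullback.hom_ext ?_ ?_)⟩
    · refine (bcP_map_fst i q).trans ?_
      refine (cancel_epi sq2.isoPullback.hom).mp ((cancel_mono e₁.hom).mp ?_)
      show (sq2.isoPullback.hom ≫ pullback.fst (Spec.map χ ≫ k) i ≫ Spec.map g₁ ≫ e₁.inv) ≫ e₁.hom = _
      rw [sq2.isoPullback_hom_fst_assoc, Category.assoc, Category.assoc, Iso.inv_hom_id, Category.comp_id,
        ← Spec.map_comp, hg₁', hf]
      simp [s]
    · exact (bcP_map_snd i q).trans (MorphismProperty.Over.w m).symm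

/-- henselian pieces: covers whose maps into ind-etale pieces come from `X` -/
theorem exists_henz_piece (U : Z.ProEt) (O : U.left.Opens) (hO : IsAffineOpen O) {A : CommRingCat.{u}}
    (k : Spec A ⟶ X) [IsOpenImmersion k] (hOk : O ≤ (U.hom ≫ i) ⁻¹ᵁ k.opensRange) :
    ∃ (V₀ : X.ProEt) (g : (ProEtS.bcP i).obj V₀ ⟶ opObj U O),
      Sieve.generate (Presieve.singleton g) ∈ Scheme.ProEt.topology Z (opObj U O) ∧ IsAffine V₀.left ∧
      (∀ x : V₀.left, ∃ y : ((ProEtS.bcP i).obj V₀).left, x ⤳ (pfst i V₀).base y) ∧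
      ∀ (P : X.ProEt) (A₁ B₁ : CommRingCat.{u}) (k₁ : Spec A₁ ⟶ X) (χ₁ : A₁ ⟶ B₁) (e₁ : P.left ≅ Spec B₁),
        IsOpenImmersion k₁ → P.hom = e₁.hom ≫ Spec.map χ₁ ≫ k₁ →
        (letI := χ₁.hom.toAlgebra; EtPBC.IsIndEtale A₁ B₁) → Set.range k.base ⊆ Set.range k₁.base →
        ∀ m : (ProEtS.bcP i).obj V₀ ⟶ (ProEtS.bcP i).obj P, ∃ g₁ : V₀ ⟶ P, (ProEtS.bcP i).map g₁ = m := by
  obtain ⟨I, k', hk', sq⟩ := exists_chart i k
  have hOk' : O ≤ U.hom ⁻¹ᵁ k'.opensRange := fun y hy => by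
    obtain ⟨a, ha⟩ := hOk hy
    rw [Scheme.Hom.comp_apply] at ha
    obtain ⟨w, hw, -⟩ := Scheme.Pullback.exists_preimage_pullback (f := i) (g := k) (U.hom.base y) a ha.symm
    refine ⟨sq.isoPullback.inv.base w, ?_⟩
    rw [← Scheme.Hom.comp_apply, IsPullback.isoPullback_inv_fst]
    exact hw
  obtain ⟨P', g', K, ψ, e, hg, hPh, hind⟩ := exists_indPiece_affine U O hO k' hOk'
  obtain ⟨V₀, ev₀, hev, haff, -, hspec, hlift⟩ := exists_henz_obj i k k' sq ψ hind
  let ev : (ProEtS.bcP i).obj V₀ ≅ P' :=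
    MorphismProperty.Over.isoMk (ev₀ ≪≫ e.symm) (by
      show (ev₀.hom ≫ e.inv) ≫ P'.hom = ((ProEtS.bcP i).obj V₀).hom
      rw [hPh, hev, Category.assoc, Iso.inv_hom_id_assoc])
  refine ⟨V₀, ev.hom ≫ g', ?_, haff, hspec, hlift⟩
  refine GrothendieckTopology.superset_covering _ ?_ hg
  rintro Y f ⟨_, a, _, ⟨⟩, rfl⟩
  exact ⟨_, a ≫ ev.inv, _, ⟨⟩, by simp⟩

theorem bcP_isCoverDense : (ProEtS.bcP i).IsCoverDense (Scheme.ProEt.topology Z) where
  is_cover U := by
    have hx : ∀ x : U.left, ∃ (O : U.left.Opens) (_ : IsAffineOpen O) (_ : x ∈ O) (A : CommRingCat.{u})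
        (k : Spec A ⟶ X) (_ : IsOpenImmersion k), O ≤ (U.hom ≫ i) ⁻¹ᵁ k.opensRange := fun x => by
      obtain ⟨A, k, hk, hxk, -⟩ := Scheme.exists_affine_mem_range_and_range_subset
        (x := (U.hom ≫ i).base x) (U := (⊤ : X.Opens)) trivial
      obtain ⟨O, hO, hxO, hOk⟩ := exists_isAffineOpen_mem_and_subset (x := x)
        (U := (U.hom ≫ i) ⁻¹ᵁ k.opensRange) (show (U.hom ≫ i).base x ∈ k.opensRange from hxk)
      exact ⟨O, hO, hxO, A, k, hk, hOk⟩
    choose O hO hxO A k hk hOk using hx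
    refine mem_topology_of_family _ _ _ (opens_mem_topology U O fun x => ⟨x, hxO x⟩) fun x => ?_
    haveI := hk x
    obtain ⟨V₀, g, hg, -⟩ := exists_henz_piece i U (O x) (hO x) (k x) (hOk x)
    refine GrothendieckTopology.superset_covering _ ?_ hg
    rintro Y f ⟨_, a, _, ⟨⟩, rfl⟩
    refine Sieve.downward_closed _ ?_ a
    exact ⟨⟨V₀, 𝟙 _, g ≫ opHom U (O x), by rw [Category.id_comp]⟩⟩

theorem bc_family_mem {V : X.ProEt} {ι : Type u} (Q : ι → X.ProEt) (q : ∀ a, Q a ⟶ V)
    (h : Sieve.generate (Presieve.ofArrows Q q) ∈ Scheme.ProEt.topology X V) :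
    Sieve.generate (Presieve.ofArrows (fun a => (ProEtS.bcP i).obj (Q a)) fun a => (ProEtS.bcP i).map (q a)) ∈
      Scheme.ProEt.topology Z ((ProEtS.bcP i).obj V) := by
  obtain ⟨T, hT, hTS⟩ := (mem_topology_iff _).1 h
  obtain ⟨κ, Y, r, rfl⟩ := T.exists_eq_ofArrows
  have h2 := precoverage_le_comap_bcP i _ hT
  rw [Precoverage.mem_comap_iff, Presieve.map_ofArrows] at h2
  refine (mem_topology_iff _).2 ⟨_, h2, ?_⟩
  rintro _ _ ⟨t⟩
  obtain ⟨W, a, b, ⟨c⟩, hab⟩ := hTS _ _ (Presieve.ofArrows.mk t)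
  exact ⟨_, (ProEtS.bcP i).map a, _, ⟨c⟩, by rw [← Functor.map_comp, hab]⟩

theorem bcP_isLocallyFull : (ProEtS.bcP i).IsLocallyFull (Scheme.ProEt.topology Z) where
  functorPushforward_imageSieve_mem {V W} h := by
    obtain ⟨ι, Q, q, hq, hQ⟩ := exists_indPiece_cover V
    obtain ⟨κ, P, p, hp, hP⟩ := exists_indPiece_cover W
    let R : Sieve ((ProEtS.bcP i).obj V) :=
      Sieve.generate (Presieve.ofArrows (fun a => (ProEtS.bcP i).obj (Q a)) fun a => (ProEtS.bcP i).map (q a)) ⊓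
      (Sieve.generate (Presieve.ofArrows (fun b => (ProEtS.bcP i).obj (P b)) fun b => (ProEtS.bcP i).map (p b))).pullback h
    have hR : R ∈ Scheme.ProEt.topology Z ((ProEtS.bcP i).obj V) :=
      (Scheme.ProEt.topology Z).intersection_covering (bc_family_mem i Q q hq)
        ((Scheme.ProEt.topology Z).pullback_stable h (bc_family_mem i P p hp))
    refine (Scheme.ProEt.topology Z).transitive hR _ fun T₁ f hf => ?_
    obtain ⟨⟨_, l, _, ⟨a⟩, hl⟩, ⟨_, l', _, ⟨b⟩, hl'⟩⟩ := hf
    obtain ⟨Aa, Ba, ka, χa, ea, hka, hQh, hQi⟩ := hQ a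
    obtain ⟨Ab, Bb, kb, χb, eb, hkb, hPh, hPi⟩ := hP b
    have hra : ∀ y, (T₁.hom ≫ i).base y ∈ ka.opensRange := fun y => by
      have e : (l.left ≫ pullback.fst (Q a).hom i ≫ ea.hom ≫ Spec.map χa) ≫ ka = T₁.hom ≫ i := by
        simp only [Category.assoc, ← hQh, pullback.condition]
        rw [← Category.assoc]
        exact congrArg (· ≫ i) (MorphismProperty.Over.w l)
      exact ⟨(l.left ≫ pullback.fst (Q a).hom i ≫ ea.hom ≫ Spec.map χa).base y,
        (Scheme.Hom.comp_apply _ _ _).symm.trans (congrArg (fun z => z.base y) e)⟩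
    have hrb : ∀ y, (T₁.hom ≫ i).base y ∈ kb.opensRange := fun y => by
      have e : (l'.left ≫ pullback.fst (P b).hom i ≫ eb.hom ≫ Spec.map χb) ≫ kb = T₁.hom ≫ i := by
        simp only [Category.assoc, ← hPh, pullback.condition]
        rw [← Category.assoc]
        exact congrArg (· ≫ i) (MorphismProperty.Over.w l')
      exact ⟨(l'.left ≫ pullback.fst (P b).hom i ≫ eb.hom ≫ Spec.map χb).base y,
        (Scheme.Hom.comp_apply _ _ _).symm.trans (congrArg (fun z => z.base y) e)⟩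
    have hx : ∀ x : T₁.left, ∃ (O : T₁.left.Opens) (_ : IsAffineOpen O) (_ : x ∈ O) (A : CommRingCat.{u})
        (k : Spec A ⟶ X) (_ : IsOpenImmersion k), O ≤ (T₁.hom ≫ i) ⁻¹ᵁ k.opensRange ∧
          Set.range k.base ⊆ (ka.opensRange ⊓ kb.opensRange : X.Opens) := fun x => by
      obtain ⟨A, k, hk, hxk, hks⟩ := Scheme.exists_affine_mem_range_and_range_subset
        (x := (T₁.hom ≫ i).base x) (U := ka.opensRange ⊓ kb.opensRange) ⟨hra x, hrb x⟩
      obtain ⟨O, hO, hxO, hOk⟩ := exists_isAffineOpen_mem_and_subset (x := x)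
        (U := (T₁.hom ≫ i) ⁻¹ᵁ k.opensRange) (show (T₁.hom ≫ i).base x ∈ k.opensRange from hxk)
      exact ⟨O, hO, hxO, A, k, hk, hOk, hks⟩
    choose O hO hxO A k hk hOk hks using hx
    refine mem_topology_of_family _ _ _ (opens_mem_topology T₁ O fun x => ⟨x, hxO x⟩) fun x => ?_
    haveI := hk x
    obtain ⟨V₀, g, hg, -, -, hlift⟩ := exists_henz_piece i T₁ (O x) (hO x) (k x) (hOk x)
    obtain ⟨g₁, hg₁⟩ := hlift (Q a) Aa Ba ka χa ea hka hQh hQi (fun z hz => (hks x hz).1)
      (g ≫ opHom T₁ (O x) ≫ l)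
    obtain ⟨g₂, hg₂⟩ := hlift (P b) Ab Bb kb χb eb hkb hPh hPi (fun z hz => (hks x hz).2)
      (g ≫ opHom T₁ (O x) ≫ l')
    refine GrothendieckTopology.superset_covering _ ?_ hg
    rintro Y c ⟨_, c', _, ⟨⟩, rfl⟩
    refine ⟨V₀, g₁ ≫ q a, c', ⟨g₂ ≫ p b, ?_⟩, ?_⟩
    · rw [Functor.map_comp, Functor.map_comp, hg₁, hg₂]
      simp only [Category.assoc, reassoc_of% hl]
      rw [← hl']
    · rw [Functor.map_comp, hg₁]
      simp only [Category.assoc, hl]

theorem pushP_fullyFaithful [ProEtS.PCont i] : (ProEtS.pushP i).Full ∧ (ProEtS.pushP i).Faithful :=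
  haveI := bcP_isCoverDense i
  haveI := bcP_isLocallyFull i
  ⟨inferInstance, inferInstance⟩

theorem isIso_counit [ProEtS.PCont i] (F : ProEtS.AbP Z) : IsIso ((ProEtS.pullPushAdjP i).counit.app F) := by
  obtain ⟨_, _⟩ := pushP_fullyFaithful i
  infer_instance

end Groth.Agent.ProEtLib.CI
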