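import Groth.Agent.ProEtLib.Detect
import Groth.Agent.S0734
import Mathlib

/-! weakly contractible objects over a closed subscheme and their henselizations -/

set_option autoImplicit false

universe u

open CategoryTheory CategoryTheory.Limits AlgebraicGeometry Opposite

noncomputable section

set_option backward.isDefEq.respectTransparency false
set_option backward.isDefEq.respectTransparency.types false

namespace Groth.Agent.ProEtLib.CI

section Gen

variable {Y : Scheme.{u}}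

theorem glue_hom (W : Y.ProEt) {n : ℕ} (O : Fin n → W.left.Opens)
    (hd : Pairwise fun k l => Disjoint (O k : Set W.left) (O l)) (hc : ∀ x, ∃ k, x ∈ O k)
    (T : Y.ProEt) (t : ∀ k, opObj W (O k) ⟶ T) : ∃! m : W ⟶ T, ∀ k, opHom W (O k) ≫ m = t k := by
  haveI : ∀ k, IsOpenImmersion (opHom W (O k)).left := fun k => inferInstanceAs (IsOpenImmersion (O k).ι)
  exact existsUnique_glue (yoneda.obj T) (GrothendieckTopology.Subcanonical.isSheaf_of_isRepresentable _)
    (fun _ hZ => ⟨fun a b => MorphismProperty.Over.Hom.ext (isInitialOfIsEmpty.hom_ext _ _)⟩)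
    W (fun k => opObj W (O k)) (fun k => opHom W (O k))
    (fun k l hkl => by
      show Disjoint (Set.range (O k).ι.base) (Set.range (O l).ι.base)
      rw [Scheme.Opens.range_ι, Scheme.Opens.range_ι]
      exact hd hkl)
    (fun x => (hc x).imp fun k hk => ⟨⟨x, hk⟩, rfl⟩) t

theorem exists_factor {W T : Y.ProEt} (hW : Criterion W) {β : Type u} (Q : β → Y.ProEt) (q : ∀ b, Q b ⟶ T)
    (hq : Sieve.generate (Presieve.ofArrows Q q) ∈ Scheme.ProEt.topology Y T) (m : W ⟶ T) :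
    ∃ (n : ℕ) (O : Fin n → W.left.Opens) (b : Fin n → β) (t : ∀ k, opObj W (O k) ⟶ Q (b k)),
      (Pairwise fun k l => Disjoint (O k : Set W.left) (O l)) ∧ (∀ x, ∃ k, x ∈ O k) ∧
      ∀ k, t k ≫ q (b k) = opHom W (O k) ≫ m := by
  obtain ⟨n, O, -, hd, hc, hO⟩ := hW _ ((Scheme.ProEt.topology Y).pullback_stable m hq)
  have h : ∀ k, ∃ b, ∃ t : opObj W (O k) ⟶ Q b, t ≫ q b = opHom W (O k) ≫ m := fun k => by
    obtain ⟨_, t, _, ⟨b⟩, ht⟩ := hO k
    exact ⟨b, t, ht⟩
  choose b t ht using h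
  exact ⟨n, O, b, t, hd, fun x => Set.mem_iUnion.1 (hc.symm ▸ Set.mem_univ x), ht⟩

theorem exists_sigma_affine {n : ℕ} (V : Fin n → Y.ProEt) [∀ k, IsAffine (V k).left] :
    ∃ (P : Y.ProEt) (j : ∀ k, V k ⟶ P), IsAffine P.left ∧ ∀ (T : Y.ProEt) (h : ∀ k, V k ⟶ T),
      ∃ m : P ⟶ T, ∀ k, j k ≫ m = h k := by
  let c : ULift.{u} (Fin n) → Scheme.{u} := fun k => (V k.down).left
  let q : ∀ k, c k ⟶ Y := fun k => (V k.down).hom
  have : WeaklyEtale (Sigma.desc q) := IsZariskiLocalAtSource.sigmaDesc fun k => (V k.down).prop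
  haveI : ∀ k, IsAffine (c k) := fun k => inferInstanceAs (IsAffine (V k.down).left)
  refine ⟨Scheme.ProEt.mk (Sigma.desc q),
    fun i => MorphismProperty.Over.homMk (Sigma.ι c ⟨i⟩) (Sigma.ι_desc (f := c) q ⟨i⟩),
    inferInstanceAs (IsAffine (∐ c)), fun T h =>
      ⟨MorphismProperty.Over.homMk (Sigma.desc fun k : ULift.{u} (Fin n) => (h k.down).left) ?_, fun k => ?_⟩⟩
  · refine Sigma.hom_ext _ _ fun k => ?_
    show Sigma.ι c k ≫ (Sigma.desc fun k : ULift.{u} (Fin n) => (h k.down).left) ≫ T.hom = Sigma.ι c k ≫ Sigma.desc q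
    rw [Sigma.ι_desc_assoc, Sigma.ι_desc]
    exact MorphismProperty.Over.w (h k.down)
  · exact MorphismProperty.Over.Hom.ext (Sigma.ι_desc _ (ULift.up k))

end Gen

variable {Z X : Scheme.{u}} (i : Z ⟶ X) [IsClosedImmersion i]

/-- an affine object of `X` with weakly contractible restriction to `Z` and all maps lifting -/
def IsBase (V₀ : X.ProEt) : Prop :=
  IsAffine V₀.left ∧ Criterion ((ProEtS.bcP i).obj V₀) ∧
    (∀ x : V₀.left, ∃ y : ((ProEtS.bcP i).obj V₀).left, x ⤳ (pfst i V₀).base y) ∧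
    ∀ (V : X.ProEt) (m : (ProEtS.bcP i).obj V₀ ⟶ (ProEtS.bcP i).obj V),
      ∃ g : V₀ ⟶ V, (ProEtS.bcP i).map g = m

theorem exists_lift_opens {V : X.ProEt} {W : Z.ProEt} (m : W ⟶ (ProEtS.bcP i).obj V) (D : V.left.Opens)
    (h : ∀ w, (pfst i V).base (m.left.base w) ∈ D) :
    ∃ m' : W ⟶ (ProEtS.bcP i).obj (opObj V D), m' ≫ (ProEtS.bcP i).map (opHom V D) = m := by
  have hr : Set.range (m.left ≫ pfst i V).base ⊆ Set.range D.ι.base := by
    rw [Scheme.Opens.range_ι]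
    rintro _ ⟨w, rfl⟩
    exact h w
  let l := IsOpenImmersion.lift D.ι (m.left ≫ pfst i V) hr
  have hl : l ≫ D.ι ≫ V.hom = W.hom ≫ i := by
    rw [IsOpenImmersion.lift_fac_assoc, Category.assoc]
    show m.left ≫ pullback.fst V.hom i ≫ V.hom = W.hom ≫ i
    rw [pullback.condition, ← Category.assoc]
    exact congrArg (· ≫ i) (MorphismProperty.Over.w m)
  refine ⟨MorphismProperty.Over.homMk (pullback.lift l W.hom hl) (pullback.lift_snd _ _ _),
    MorphismProperty.Over.Hom.ext (pullback.hom_ext ?_ ?_)⟩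
  · show (pullback.lift l W.hom hl ≫ ((ProEtS.bcP i).map (opHom V D)).left) ≫ pfst i V = m.left ≫ pfst i V
    rw [Category.assoc, bcP_map_fst]
    show pullback.lift l W.hom hl ≫ pullback.fst (D.ι ≫ V.hom) i ≫ D.ι = _
    rw [pullback.lift_fst_assoc]
    exact IsOpenImmersion.lift_fac _ _ _
  · show (pullback.lift l W.hom hl ≫ ((ProEtS.bcP i).map (opHom V D)).left) ≫ pullback.snd V.hom i =
      m.left ≫ pullback.snd V.hom i
    rw [Category.assoc, bcP_map_snd]
    exact (pullback.lift_snd _ _ _).trans (MorphismProperty.Over.w m).symm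

theorem exists_isBase {A : CommRingCat.{u}} (k : Spec A ⟶ X) [IsOpenImmersion k] {I : Ideal A}
    (k' : Spec (CommRingCat.of (A ⧸ I)) ⟶ Z)
    (sq : IsPullback k' (Spec.map (CommRingCat.ofHom (Ideal.Quotient.mk I))) i k)
    {K : CommRingCat.{u}} (ψ : CommRingCat.of (A ⧸ I) ⟶ K)
    (hind : letI := ψ.hom.toAlgebra; EtPBC.IsIndEtale (A ⧸ I) K) (hwc : EtPBC.IsWContractible K) :
    ∃ (V₀ : X.ProEt) (e : ((ProEtS.bcP i).obj V₀).left ≅ Spec K),
      ((ProEtS.bcP i).obj V₀).hom = e.hom ≫ Spec.map ψ ≫ k' ∧ IsBase i V₀ := by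
  obtain ⟨V₀, e, he, haff, hran, hspec, hlift⟩ := exists_henz_obj i k k' sq ψ hind
  let W := (ProEtS.bcP i).obj V₀
  haveI : IsAffine W.left := IsAffine.of_isIso e.hom
  have hW : Criterion W := criterion_of_wContractible (wContractible_of_ringEquiv
    (((Scheme.ΓSpecIso K).symm ≪≫ (asIso e.hom.appTop))).commRingCatIsoToRingEquiv hwc)
  refine ⟨V₀, e, he, haff, hW, hspec, fun V m => ?_⟩
  let D : V.left.Opens := V.hom ⁻¹ᵁ k.opensRange
  obtain ⟨m₀, hm₀⟩ := exists_lift_opens i m D fun w => by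
    show V.hom.base ((pfst i V).base (m.left.base w)) ∈ Set.range k.base
    have e1 : (m.left ≫ pfst i V) ≫ V.hom = pfst i V₀ ≫ V₀.hom := by
      show (m.left ≫ pullback.fst V.hom i) ≫ V.hom = pullback.fst V₀.hom i ≫ V₀.hom
      rw [Category.assoc, pullback.condition, pullback.condition, ← Category.assoc]
      exact congrArg (· ≫ i) (MorphismProperty.Over.w m)
    have e2 := congrArg (fun f => f.base w) e1
    simp only [Scheme.Hom.comp_apply] at e2
    exact e2.symm ▸ hran ⟨_, rfl⟩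
  let VD := opObj V D
  have hVD : ∀ O : VD.left.Opens, O ≤ VD.hom ⁻¹ᵁ k.opensRange := fun O y _ => y.2
  let β := VD.left.affineOpens
  choose P p Bp χp ep hp hPh hPi using fun O : β =>
    exists_indPiece_affine VD O.1 O.2 k (hVD O.1)
  haveI hPa : ∀ O, IsAffine (P O).left := fun O => IsAffine.of_isIso (ep O).hom
  have hfam : Sieve.generate (Presieve.ofArrows P fun O => p O ≫ opHom VD O.1) ∈ Scheme.ProEt.topology X VD := by
    refine mem_topology_of_family _ _ _ (opens_mem_topology VD (fun O : β => O.1) fun x => ?_) fun O => ?_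
    · obtain ⟨O, hO, hx, -⟩ := exists_isAffineOpen_mem_and_subset (show x ∈ (⊤ : VD.left.Opens) from trivial)
      exact ⟨⟨O, hO⟩, hx⟩
    · refine GrothendieckTopology.superset_covering _ ?_ (hp O)
      rintro T f ⟨_, a, _, ⟨⟩, rfl⟩
      exact ⟨_, a, _, ⟨O⟩, by simp⟩
  obtain ⟨n, O, b, t, hd, hc, ht⟩ := exists_factor hW _ _ (bc_family_mem i _ _ hfam) m₀
  obtain ⟨S, js, hSa, hS⟩ := exists_sigma_affine fun l => P (b l)
  haveI := hSa
  obtain ⟨σ, hσ⟩ := hS VD fun l => p (b l) ≫ opHom VD (b l).1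
  obtain ⟨m₁, hm₁, -⟩ := glue_hom W O hd hc _ fun l => t l ≫ (ProEtS.bcP i).map (js l)
  have hm₁' : m₁ ≫ (ProEtS.bcP i).map σ = m₀ := by
    refine (glue_hom W O hd hc _ fun l => opHom W (O l) ≫ m₀).unique (fun l => ?_) fun l => rfl
    rw [← Category.assoc, hm₁ l, Category.assoc, ← Functor.map_comp, hσ l, ht l]
  have hSk : (⊤ : S.left.Opens) ≤ S.hom ⁻¹ᵁ k.opensRange := fun y _ => by
    show S.hom.base y ∈ k.opensRange
    rw [← MorphismProperty.Over.w σ, Scheme.Hom.comp_apply]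
    exact (σ.left.base y).2
  obtain ⟨P', p', B', χ', e', hp', hP'h, hP'i⟩ := exists_indPiece_affine S ⊤ (isAffineOpen_top _) k hSk
  have hfam' : Sieve.generate (Presieve.ofArrows (fun _ : PUnit.{u + 1} => P') fun _ => p' ≫ opHom S ⊤) ∈
      Scheme.ProEt.topology X S := by
    refine mem_topology_of_family _ _ _ (opens_mem_topology S (fun _ : PUnit.{u + 1} => ⊤) fun x => ⟨⟨⟩, trivial⟩) fun _ => ?_
    refine GrothendieckTopology.superset_covering _ ?_ hp'
    rintro T f ⟨_, a, _, ⟨⟩, rfl⟩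
    exact ⟨_, a, _, ⟨⟨⟩⟩, by simp⟩
  obtain ⟨n', O', -, t', hd', hc', ht'⟩ := exists_factor hW _ _ (bc_family_mem i _ _ hfam') m₁
  obtain ⟨m₂, hm₂, -⟩ := glue_hom W O' hd' hc' _ t'
  have hm₂' : m₂ ≫ (ProEtS.bcP i).map (p' ≫ opHom S ⊤) = m₁ := by
    refine (glue_hom W O' hd' hc' _ fun l => opHom W (O' l) ≫ m₁).unique (fun l => ?_) fun l => rfl
    rw [← Category.assoc, hm₂ l, ht' l]
  obtain ⟨g, hg⟩ := hlift P' A B' k χ' e' ‹_› hP'h hP'i le_rfl m₂
  exact ⟨g ≫ p' ≫ opHom S ⊤ ≫ σ ≫ opHom V D, by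
    rw [Functor.map_comp, hg, ← hm₀, ← hm₁', ← hm₂']
    simp only [Functor.map_comp, Category.assoc]⟩

theorem isBase_covers (U : Z.ProEt) :
    Sieve.generate (fun W (f : W ⟶ U) => ∃ V₀, IsBase i V₀ ∧ Nonempty (W ≅ (ProEtS.bcP i).obj V₀)) ∈
      Scheme.ProEt.topology Z U := by
  have hx : ∀ x : U.left, ∃ (O : U.left.Opens) (_ : IsAffineOpen O) (_ : x ∈ O) (A : CommRingCat.{u})
      (k : Spec A ⟶ X) (_ : IsOpenImmersion k), O ≤ (U.hom ≫ i) ⁻¹ᵁ k.opensRange := fun x => by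
    obtain ⟨A, k, hk, hxk, -⟩ := Scheme.exists_affine_mem_range_and_range_subset
      (x := (U.hom ≫ i).base x) (U := (⊤ : X.Opens)) trivial
    obtain ⟨O, hO, hxO, hOk⟩ := exists_isAffineOpen_mem_and_subset (x := x)
      (U := (U.hom ≫ i) ⁻¹ᵁ k.opensRange) (show (U.hom ≫ i).base x ∈ k.opensRange from hxk)
    exact ⟨O, hO, hxO, A, k, hk, hOk⟩
  choose O hO hxO A k hk hOk using hx
  refine mem_topology_of_family _ _ _ (opens_mem_topology U O fun x => ⟨x, hxO x⟩) fun x => ?_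
  haveI := hk x
  obtain ⟨I, k', hk', sq⟩ := exists_chart i (k x)
  have hOk' : O x ≤ U.hom ⁻¹ᵁ k'.opensRange := fun y hy => by
    obtain ⟨a, ha⟩ := hOk x hy
    rw [Scheme.Hom.comp_apply] at ha
    obtain ⟨w, hw, -⟩ := Scheme.Pullback.exists_preimage_pullback (f := i) (g := k x) (U.hom.base y) a ha.symm
    refine ⟨sq.isoPullback.inv.base w, ?_⟩
    rw [← Scheme.Hom.comp_apply, IsPullback.isoPullback_inv_fst]
    exact hw
  obtain ⟨P, p, K, ψ, e, hp, hPh, hind⟩ := exists_indPiece_affine U (O x) (hO x) k' hOk'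
  obtain ⟨G, _, _, hff, hie, hwc⟩ := WStrictLib.exists_wContractible K
  letI : Algebra (A x ⧸ I) K := ψ.hom.toAlgebra
  letI : Algebra (A x ⧸ I) G := ((algebraMap K G).comp ψ.hom).toAlgebra
  haveI : IsScalarTower (A x ⧸ I) K G := IsScalarTower.of_algebraMap_eq fun _ => rfl
  have hind' : EtPBC.IsIndEtale (A x ⧸ I) G := S0734.result (A x ⧸ I) K G hind hie
  obtain ⟨V₀, eV, heV, hV₀⟩ := exists_isBase i (k x) k' sq (ψ ≫ CommRingCat.ofHom (algebraMap K G)) hind' hwc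
  haveI : Algebra.WeaklyEtale K G := S0736.result _ _ hie
  haveI := weaklyEtale_spec K G
  let φ : Spec (CommRingCat.of G) ⟶ Spec K := Spec.map (CommRingCat.ofHom (algebraMap K G))
  haveI : Surjective φ := ⟨PrimeSpectrum.comap_surjective_of_faithfullyFlat⟩
  let a : (ProEtS.bcP i).obj V₀ ⟶ P :=
    MorphismProperty.Over.homMk (eV.hom ≫ φ ≫ e.inv) (by
      show (eV.hom ≫ φ ≫ e.inv) ≫ P.hom = ((ProEtS.bcP i).obj V₀).hom
      rw [heV, hPh]
      simp [φ])
  have ha : Sieve.generate (Presieve.singleton a) ∈ Scheme.ProEt.topology Z P :=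
    @singleton_mem_topology _ _ _ a (inferInstanceAs (QuasiCompact (eV.hom ≫ φ ≫ e.inv)))
      (inferInstanceAs (Surjective (eV.hom ≫ φ ≫ e.inv)))
  refine (Scheme.ProEt.topology Z).transitive hp _ ?_
  rintro T f ⟨_, b, _, ⟨⟩, rfl⟩
  rw [Sieve.pullback_comp]
  refine (Scheme.ProEt.topology Z).pullback_stable b (GrothendieckTopology.superset_covering _ ?_ ha)
  rintro T' f' ⟨_, c, _, ⟨⟩, rfl⟩
  exact ⟨_, c, a ≫ p ≫ opHom U (O x), ⟨V₀, hV₀, ⟨Iso.refl _⟩⟩, by simp⟩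

end Groth.Agent.ProEtLib.CI
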