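import Groth.Agent.ProEtLib.ClosedImm
import Groth.Agent.EtFound.PushExact
import Mathlib

/-! direct images along closed immersions with retrocompact complement are exact on pro-etale sheaves -/

set_option autoImplicit false

universe u

open CategoryTheory CategoryTheory.Limits AlgebraicGeometry Opposite

noncomputable section

set_option backward.isDefEq.respectTransparency false
set_option backward.isDefEq.respectTransparency.types false

namespace Groth.Agent.ProEtLib.CI

theorem subsingleton_sections_of_isEmpty {Z : Scheme.{u}} (G : ProEtS.AbP Z) (W : Z.ProEt) [IsEmpty W.left] :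
    Subsingleton (G.obj.obj (op W)) := by
  exact ⟨fun a b => ((isSheaf_iff_isSheaf_of_type _ _).1
    ((Presheaf.isSheaf_iff_isSheaf_forget (Scheme.ProEt.topology Z) G.obj (forget AddCommGrpCat.{u + 1})).1 G.2) _
    (Scheme.ProEt.bot_mem_topology W)).isSeparatedFor.ext (fun _ _ h => h.elim)⟩

variable {Z X : Scheme.{u}} (i : Z ⟶ X) [IsClosedImmersion i]

theorem pushP_preservesEpimorphisms [ProEtS.PCont i] (hr : IsRetrocompact (Set.range i.base)ᶜ) :
    (ProEtS.pushP i).PreservesEpimorphisms := by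
  refine ⟨fun {F G} φ _ => ?_⟩
  have hφ : Sheaf.IsLocallySurjective φ := (Sheaf.isLocallySurjective_iff_epi' _ φ).2 inferInstance
  refine (Sheaf.isLocallySurjective_iff_epi' _ _).1 ⟨fun {V} s => ?_⟩
  obtain ⟨ι, Q, q, hq, hQ⟩ := exists_indPiece_cover V
  refine mem_topology_of_family _ _ _ hq fun a => ?_
  obtain ⟨A, B, k, χ, e, hk, hQh, hQi⟩ := hQ a
  haveI hQa : IsAffine (Q a).left := IsAffine.of_isIso e.hom
  let sa : G.obj.obj (op ((ProEtS.bcP i).obj (Q a))) := G.obj.map ((ProEtS.bcP i).map (q a)).op s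
  let bQ := (ProEtS.bcP i).obj (Q a)
  haveI : IsAffine bQ.left := @isAffine_of_isAffineHom _ _ (pullback.fst (Q a).hom i) inferInstance hQa
  obtain ⟨T, hT, hTS⟩ := (mem_topology_iff _).1 (Presheaf.imageSieve_mem (Scheme.ProEt.topology Z) φ.hom sa)
  obtain ⟨κ, Y, r, rfl⟩ := T.exists_eq_ofArrows
  rw [ofArrows_mem_precoverage_iff, mem_proetalePrecoverage_iff] at hT
  obtain ⟨hqc, -, -⟩ := hT
  let 𝒯 := PreZeroHypercover.mk κ (fun t => (Y t).left) (fun t => (r t).left)
  haveI : QuasiCompactCover 𝒯 := hqc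
  obtain ⟨n, t, O, hO, hcov⟩ := QuasiCompactCover.exists_isAffineOpen_of_isCompact (𝒰 := 𝒯)
    (U := ⊤) (isAffineOpen_top bQ.left).isCompact
  have hOk : ∀ c, O c ≤ ((Y (t c)).hom ≫ i) ⁻¹ᵁ k.opensRange := fun c y _ => by
    have e' : ((r (t c)).left ≫ pullback.fst (Q a).hom i ≫ e.hom ≫ Spec.map χ) ≫ k = (Y (t c)).hom ≫ i := by
      simp only [Category.assoc, ← hQh, pullback.condition]
      rw [← Category.assoc]
      exact congrArg (· ≫ i) (MorphismProperty.Over.w (r (t c)))
    exact ⟨((r (t c)).left ≫ pullback.fst (Q a).hom i ≫ e.hom ≫ Spec.map χ).base y,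
      (Scheme.Hom.comp_apply _ _ _).symm.trans (congrArg (fun z => z.base y) e')⟩
  have hV : ∀ c, ∃ (V₀ : X.ProEt) (g : (ProEtS.bcP i).obj V₀ ⟶ opObj (Y (t c)) (O c)) (g₁ : V₀ ⟶ Q a),
      Sieve.generate (Presieve.singleton g) ∈ Scheme.ProEt.topology Z (opObj (Y (t c)) (O c)) ∧ IsAffine V₀.left ∧
      (ProEtS.bcP i).map g₁ = g ≫ opHom _ (O c) ≫ r (t c) := fun c => by
    obtain ⟨V₀, g, hg, haff, -, hl⟩ := exists_henz_piece i (Y (t c)) (O c) (hO c) k (hOk c)
    obtain ⟨g₁, hg₁⟩ := hl (Q a) A B k χ e hk hQh hQi le_rfl (g ≫ opHom _ (O c) ≫ r (t c))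
    exact ⟨V₀, g, g₁, hg, haff, hg₁⟩
  choose V₀ g g₁ hg haff hg₁ using hV
  let U : (Q a).left.Opens :=
    ⟨(Q a).hom.base ⁻¹' (Set.range i.base)ᶜ, i.isClosedEmbedding.isClosed_range.isOpen_compl.preimage (Q a).hom.continuous⟩
  have hUc : IsCompact (U : Set (Q a).left) := by
    have h1 : IsCompact ((Set.range i.base)ᶜ ∩ Set.range k.base) :=
      hr (isCompact_range k.continuous) k.isOpenEmbedding.isOpen_range
    have hopen : IsOpen ((Set.range i.base)ᶜ ∩ Set.range k.base : Set X) :=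
      i.isClosedEmbedding.isClosed_range.isOpen_compl.inter k.isOpenEmbedding.isOpen_range
    have h2 : IsCompact (k.base ⁻¹' ((Set.range i.base)ᶜ ∩ Set.range k.base)) :=
      k.isOpenEmbedding.isInducing.isCompact_preimage' h1 Set.inter_subset_right
    have h3 := h2.preimage_of_isOpen (e.hom ≫ Spec.map χ).isSpectralMap (hopen.preimage k.continuous)
    refine (congrArg IsCompact ?_).mp h3
    ext y
    show k.base ((e.hom ≫ Spec.map χ).base y) ∈ (Set.range i.base)ᶜ ∩ Set.range k.base ↔ (Q a).hom.base y ∈ (Set.range i.base)ᶜ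
    rw [← Scheme.Hom.comp_apply, Category.assoc, ← hQh]
    refine ⟨fun h => h.1, fun h => ⟨h, ?_⟩⟩
    rw [hQh, ← Category.assoc, Scheme.Hom.comp_apply]
    exact ⟨_, rfl⟩
  have hempty : IsEmpty ((ProEtS.bcP i).obj (opObj (Q a) U)).left := ⟨fun w => by
    have h1 : (pullback.fst (U.ι ≫ (Q a).hom) i ≫ U.ι ≫ (Q a).hom) = pullback.snd _ i ≫ i := pullback.condition
    have h2 := congrArg (fun z => z.base w) h1
    simp only [Scheme.Hom.comp_apply] at h2
    exact ((pullback.fst (U.ι ≫ (Q a).hom) i).base w).2 ⟨_, h2.symm⟩⟩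
  let W : Option (Fin n) → X.ProEt := fun o => o.elim (opObj (Q a) U) V₀
  let w : ∀ o, W o ⟶ Q a := fun o => match o with
    | none => opHom (Q a) U
    | some c => g₁ c
  haveI : ∀ o, CompactSpace (W o).left := fun o => match o with
    | none => isCompact_iff_compactSpace.mp hUc
    | some c => (haff c) |> fun _ => inferInstanceAs (CompactSpace (V₀ c).left)
  have hsurj : ∀ x, ∃ o, x ∈ Set.range (w o).left.base := fun x => by
    by_cases hx : (Q a).hom.base x ∈ Set.range i.base
    · obtain ⟨z, hz⟩ := hx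
      obtain ⟨x', hx', -⟩ := Scheme.Pullback.exists_preimage_pullback (f := (Q a).hom) (g := i) x z hz.symm
      have hm : x' ∈ ⋃ c, (r (t c)).left.base '' (O c : Set (Y (t c)).left) := hcov.ge trivial
      obtain ⟨c, y, hy, hyx⟩ := Set.mem_iUnion.1 hm
      obtain ⟨T', hT', hT'S⟩ := (mem_topology_iff _).1 (hg c)
      obtain ⟨κ', Y', r', rfl⟩ := T'.exists_eq_ofArrows
      rw [ofArrows_mem_precoverage_iff, mem_proetalePrecoverage_iff] at hT'
      obtain ⟨t', z', hz'⟩ := hT'.2.1 ⟨y, hy⟩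
      obtain ⟨_, d, _, ⟨⟩, hd⟩ := hT'S _ _ (Presieve.ofArrows.mk t')
      refine ⟨some c, (pullback.fst (V₀ c).hom i).base (d.left.base z'), ?_⟩
      show (g₁ c).left.base (_ : (V₀ c).left) = x
      have e2 : (d.left ≫ pullback.fst (V₀ c).hom i) ≫ (g₁ c).left =
          (r' t').left ≫ (O c).ι ≫ (r (t c)).left ≫ pullback.fst (Q a).hom i := by
        rw [Category.assoc, ← bcP_map_fst i (g₁ c), hg₁ c, ← hd]
        simp only [pfst, MorphismProperty.Comma.comp_left, Category.assoc]
        rfl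
      have e3 := congrArg (fun q => q.base z') e2
      simp only [Scheme.Hom.comp_apply] at e3
      refine e3.trans ?_
      rw [hz']
      show (pullback.fst (Q a).hom i).base ((r (t c)).left.base y) = x
      rw [hyx, hx']
    · exact ⟨none, ⟨x, hx⟩, rfl⟩
  refine (mem_topology_iff _).2 ⟨Presieve.ofArrows W w, ?_, ?_⟩
  · rw [ofArrows_mem_precoverage_iff, mem_proetalePrecoverage_iff]
    refine ⟨⟨fun {O'} hO' => ?_⟩, hsurj, fun o => weaklyEtale_left (w o)⟩
    refine IsCompactOpenCovered.of_finite_of_isSpectralMap (fun o => ?_) (fun x _ => hsurj x) O'.2 hO'.isCompact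
    haveI : QuasiCompact (w o).left := quasiCompact_of_compactSpace (w o).left
    exact (w o).left.isSpectralMap
  · rintro _ _ ⟨o⟩
    show ∃ x, φ.hom.app (op ((ProEtS.bcP i).obj (W o))) x =
      G.obj.map ((ProEtS.bcP i).map (w o ≫ q a)).op s
    match o with
    | none =>
      haveI := hempty
      exact ⟨0, (subsingleton_sections_of_isEmpty G ((ProEtS.bcP i).obj (opObj (Q a) U))).elim _ _⟩
    | some c =>
      obtain ⟨x, hx⟩ := hTS _ _ (Presieve.ofArrows.mk (t c))
      refine ⟨F.obj.map (g c ≫ opHom _ (O c)).op x, ?_⟩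
      show φ.hom.app (op ((ProEtS.bcP i).obj (V₀ c))) (F.obj.map (g c ≫ opHom _ (O c)).op x) =
        G.obj.map ((ProEtS.bcP i).map (g₁ c ≫ q a)).op s
      rw [NatTrans.naturality_apply φ.hom, hx, Functor.map_comp, hg₁ c]
      simp [sa, ← ConcreteCategory.comp_apply, ← Functor.map_comp, ← op_comp]

theorem pushP_exact [ProEtS.PCont i] (hr : IsRetrocompact (Set.range i.base)ᶜ) :
    PreservesFiniteLimits (ProEtS.pushP i) ∧ PreservesFiniteColimits (ProEtS.pushP i) := by
  have := pushP_preservesEpimorphisms i hr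
  have : (ProEtS.pushP i).IsRightAdjoint := (ProEtS.pullPushAdjP i).isRightAdjoint
  have h1 : PreservesFiniteLimits (ProEtS.pushP i) := inferInstance
  refine ⟨h1, ?_⟩
  rw [Functor.preservesFiniteColimits_iff_forall_exact_map_and_epi]
  intro S hS
  have := hS.epi_g
  refine ⟨?_, inferInstance⟩
  exact (((Functor.preservesFiniteLimits_tfae (ProEtS.pushP i)).out 3 0 rfl rfl).1 h1 S hS).1

end Groth.Agent.ProEtLib.CI
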