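import Groth.Agent.ProEtLib.Cover
import Groth.Agent.ProEtLib.EpsUnit
import Mathlib

/-! sections of extension by zero over objects concentrated along a disjoint closed subset -/

universe u

open CategoryTheory CategoryTheory.Limits AlgebraicGeometry Opposite

noncomputable section

set_option backward.isDefEq.respectTransparency false
set_option backward.isDefEq.respectTransparency.types false

namespace Groth.Agent.ProEtLib

variable {X : Scheme.{u}}

/-- finitely many quasi-compact objects jointly surjecting onto an affine object form a cover -/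
theorem finite_compact_mem_topology {U : X.ProEt} [IsAffine U.left] {ι : Type u} [Finite ι]
    (P : ι → X.ProEt) (g : ∀ i, P i ⟶ U) [∀ i, CompactSpace (P i).left]
    (hs : ∀ x, ∃ i, x ∈ Set.range (g i).left.base) :
    Sieve.generate (Presieve.ofArrows P g) ∈ Scheme.ProEt.topology X U := by
  rw [mem_topology_iff]
  refine ⟨_, ?_, Sieve.le_generate _⟩
  rw [ofArrows_mem_precoverage_iff, mem_proetalePrecoverage_iff]
  refine ⟨⟨fun {U'} hU' => IsCompactOpenCovered.of_finite_of_isSpectralMap
    (fun k => ?_) (fun x _ => hs x) U'.2 hU'.isCompact⟩, hs, fun k => weaklyEtale_left (g k)⟩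
  have : QuasiCompact (g k).left := quasiCompact_iff_compactSpace _ |>.2 inferInstance
  exact (g k).left.isSpectralMap

/-- a section vanishing on the members of a covering sieve vanishes -/
theorem eq_zero_of_cover (G : ProEtS.AbP X) {U : X.ProEt} {S : Sieve U}
    (hS : S ∈ Scheme.ProEt.topology X U) (s : G.obj.obj (op U))
    (h : ∀ ⦃W⦄ (f : W ⟶ U), S f → G.obj.map f.op s = 0) : s = 0 :=
  (((isSheaf_iff_isSheaf_of_type _ _).1
    ((Presheaf.isSheaf_iff_isSheaf_forget (Scheme.ProEt.topology X) G.obj (forget AddCommGrpCat.{u + 1})).1 G.2))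
      _ hS).isSeparatedFor.ext fun W f hf => (h f hf).trans (map_zero (G.obj.map f.op).hom).symm

theorem subsingleton_lan_compP {U X Z : Scheme.{u}} (j : U ⟶ X) [WeaklyEtale j] (i : Z ⟶ X)
    (hUZ : Disjoint (Set.range j.base) (Set.range i.base)) (V : X.ProEt) (v : V.left)
    (hv : V.hom.base v ∈ Set.range i.base) (P : U.ProEtᵒᵖ ⥤ AddCommGrpCat.{u + 1}) :
    Subsingleton (((ProEtS.compP j).op.lan.obj P).obj (op V)) := by
  have he : IsEmpty (CostructuredArrow (ProEtS.compP j).op (op V)) := ⟨fun g => by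
    refine Set.disjoint_left.1 hUZ ⟨g.left.unop.hom.base (g.hom.unop.left.base v), ?_⟩ hv
    exact (Scheme.Hom.comp_apply _ _ _).symm.trans ((Scheme.Hom.comp_apply _ _ _).symm.trans
      (congrArg (fun q => q.base v) (MorphismProperty.Over.w g.hom.unop)))⟩
  have hc := (ProEtS.compP j).op.isPointwiseLeftKanExtensionLeftKanExtensionUnit P (op V)
  have h0 : IsZero (((ProEtS.compP j).op.lan.obj P).obj (op V)) :=
    (IsZero.iff_id_eq_zero _).2 (hc.hom_ext fun g => (he.false g).elim)
  exact AddCommGrpCat.subsingleton_of_isZero h0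

theorem subsingleton_extZeroP {U X Z : Scheme.{u}} (j : U ⟶ X) [WeaklyEtale j] (i : Z ⟶ X)
    (hUZ : Disjoint (Set.range j.base) (Set.range i.base)) [ProEtS.JPCont j]
    (V : X.ProEt) [IsAffine V.left]
    (hV : ∀ v : ↥V.left, ∃ z : ↥V.left, V.hom.base z ∈ Set.range i.base ∧ v ⤳ z)
    (F : ProEtS.AbP U) : Subsingleton (((ProEtS.extZeroP j).obj F).obj.obj (op V)) := by
  let P := (ProEtS.compP j).op.lan.obj F.obj
  let L := (presheafToSheaf (Scheme.ProEt.topology X) AddCommGrpCat.{u + 1}).obj P
  suffices h : ∀ s : L.obj.obj (op V), s = 0 by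
    let e : (ProEtS.extZeroP j).obj F ≅ L :=
      (Functor.sheafPullbackConstruction.sheafPullbackIso (ProEtS.compP j) AddCommGrpCat.{u + 1}
        (Scheme.ProEt.topology U) (Scheme.ProEt.topology X)).app F
    let e' := ((sheafToPresheaf _ _).mapIso e).app (op V)
    haveI : Subsingleton (((sheafToPresheaf _ _).obj L).obj (op V)) := ⟨fun a b => (h a).trans (h b).symm⟩
    exact e'.addCommGroupIsoToAddEquiv.toEquiv.subsingleton
  intro s
  let φ := toSheafify (Scheme.ProEt.topology X) P
  obtain ⟨ι, _, Q, g, hR, hcpt, hsurj, -⟩ :=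
    exists_finite_compact_cover (Presheaf.imageSieve_mem (Scheme.ProEt.topology X) φ s)
  let κ := {k : ι // ∃ z : (Q k).left, (Q k).hom.base z ∈ Set.range i.base}
  haveI : ∀ k : κ, CompactSpace (Q k.1).left := fun k => hcpt k.1
  refine eq_zero_of_cover L (finite_compact_mem_topology (fun k : κ => Q k.1) (fun k => g k.1)
    fun x => ?_) s ?_
  · obtain ⟨z, hz, hxz⟩ := hV x
    obtain ⟨k, y, rfl⟩ := hsurj z
    haveI := weaklyEtale_left (g k)
    obtain ⟨y', -, hy'⟩ := Flat.generalizingMap (g k).left hxz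
    refine ⟨⟨k, y, ?_⟩, y', hy'⟩
    rw [← MorphismProperty.Over.w (g k), Scheme.Hom.comp_apply]
    exact hz
  · rintro W f ⟨_, a, _, ⟨k⟩, rfl⟩
    obtain ⟨t, ht⟩ := hR k.1
    obtain ⟨z, hz⟩ := k.2
    haveI := subsingleton_lan_compP j i hUZ (Q k.1) z hz F.obj
    rw [op_comp, Functor.map_comp, ConcreteCategory.comp_apply, ← ht, Subsingleton.elim t 0]
    simp

end Groth.Agent.ProEtLib
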