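import Groth.Agent.ProEtLib.ClosedImmExact
import Groth.Agent.ProEtLib.ExtZeroSec
import Groth.Agent.ProEtLib.LanSheaf
import Mathlib

/-! abelian pro-etale sheaves are detected on a closed subscheme and its open complement -/

set_option autoImplicit false

universe u

open CategoryTheory CategoryTheory.Limits AlgebraicGeometry Opposite

noncomputable section

set_option backward.isDefEq.respectTransparency false
set_option backward.isDefEq.respectTransparency.types false

namespace Groth.Agent.ProEtLib.CI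

theorem exists_of_lan_zero {X Y : Scheme.{u}} (f : X ⟶ Y) (C : Y.ProEtᵒᵖ ⥤ AddCommGrpCat.{u + 1})
    {W : X.ProEt} {V : Y.ProEt} (b : W ⟶ (ProEtS.bcP f).obj V) (s : C.obj (op V))
    (h : ((ProEtS.bcP f).op.leftKanExtension C).map b.op
      (((ProEtS.bcP f).op.leftKanExtensionUnit C).app (op V) s) = 0) :
    ∃ (V' : Y.ProEt) (b' : W ⟶ (ProEtS.bcP f).obj V') (c : V' ⟶ V),
      b' ≫ (ProEtS.bcP f).map c = b ∧ C.map c.op s = 0 := by
  have : RepresentablyFlat (ProEtS.bcP f) := flat_of_preservesFiniteLimits _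
  haveI : PreservesFilteredColimitsOfSize.{u, u + 1} (forget AddCommGrpCat.{u + 1}) :=
    preservesFilteredColimitsOfSize_shrink.{u + 1, u + 1, u, u + 1} _
  haveI : PreservesColimitsOfShape (CostructuredArrow (ProEtS.bcP f).op (op W)) (forget AddCommGrpCat.{u + 1}) :=
    PreservesFilteredColimitsOfSize.preserves_filtered_colimits _
  let g : CostructuredArrow (ProEtS.bcP f).op (op W) := CostructuredArrow.mk b.op
  let hc := (ProEtS.bcP f).op.isPointwiseLeftKanExtensionLeftKanExtensionUnit C (op W)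
  obtain ⟨k, p, q, hpq⟩ := Concrete.isColimit_exists_of_rep_eq
    (CostructuredArrow.proj (ProEtS.bcP f).op (op W) ⋙ C) (i := g) (j := g) hc s
    (0 : C.obj (op V)) (h.trans (map_zero _).symm)
  exact ⟨k.left.unop, k.hom.unop, p.left.unop, congrArg Quiver.Hom.unop (CostructuredArrow.w p),
    hpq.trans (map_zero _)⟩

theorem isZero_of_sections {X : Scheme.{u}} (G : ProEtS.AbP X) (h : ∀ W, Subsingleton (G.obj.obj (op W))) :
    IsZero G := by
  rw [IsZero.iff_id_eq_zero]
  refine ObjectProperty.hom_ext _ (NatTrans.ext (funext fun W => ?_))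
  haveI := h W.unop
  exact (AddCommGrpCat.isZero_of_subsingleton (G.obj.obj W)).eq_of_src _ _

theorem subsingleton_of_isZero {X : Scheme.{u}} {G : ProEtS.AbP X} (h : IsZero G) (W : X.ProEt) :
    Subsingleton (G.obj.obj (op W)) := by
  refine AddCommGrpCat.subsingleton_of_isZero ((IsZero.iff_id_eq_zero _).2 ?_)
  exact congrArg (fun φ : G ⟶ G => φ.hom.app (op W)) ((IsZero.iff_id_eq_zero G).1 h)

variable {Z X : Scheme.{u}} (i : Z ⟶ X) [IsClosedImmersion i]

/-- sieves covering after base change to `Z` and containing the part away from `Z` are covering -/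
theorem mem_topology_of_bc (hr : IsRetrocompact (Set.range i.base)ᶜ) {V : X.ProEt} (S : Sieve V)
    (hE : ∀ ⦃W : X.ProEt⦄ (f : W ⟶ V), IsEmpty ((ProEtS.bcP i).obj W).left → S f)
    (hS : S.functorPushforward (ProEtS.bcP i) ∈ Scheme.ProEt.topology Z ((ProEtS.bcP i).obj V)) :
    S ∈ Scheme.ProEt.topology X V := by
  obtain ⟨ι, Q, q, hq, hQ⟩ := exists_indPiece_cover V
  refine mem_topology_of_family _ _ _ hq fun a => ?_
  obtain ⟨A, B, k, χ, e, hk, hQh, -⟩ := hQ a
  haveI hQa : IsAffine (Q a).left := IsAffine.of_isIso e.hom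
  let bQ := (ProEtS.bcP i).obj (Q a)
  haveI : IsAffine bQ.left := @isAffine_of_isAffineHom _ _ (pullback.fst (Q a).hom i) inferInstance hQa
  have hR : (S.pullback (q a)).functorPushforward (ProEtS.bcP i) ∈ Scheme.ProEt.topology Z bQ := by
    refine GrothendieckTopology.superset_covering _ ?_
      ((Scheme.ProEt.topology Z).pullback_stable ((ProEtS.bcP i).map (q a)) hS)
    rintro T f ⟨V', c, b, hc, hb⟩
    let sq := isLimitOfHasPullbackOfPreservesLimit (ProEtS.bcP i) (q a) c
    let l : T ⟶ (ProEtS.bcP i).obj (pullback (q a) c) := PullbackCone.IsLimit.lift sq f b hb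
    refine ⟨_, pullback.fst (q a) c, l, ?_, (PullbackCone.IsLimit.lift_fst sq f b hb).symm⟩
    show S (pullback.fst (q a) c ≫ q a)
    rw [pullback.condition]
    exact S.downward_closed hc _
  obtain ⟨κ, _, P, g, hg, hP, hsurj, -⟩ := exists_finite_compact_cover hR
  choose V' c b hc hb using hg
  have hW : ∀ t, ∃ W : (V' t).left.Opens, IsCompact (W : Set (V' t).left) ∧
      Set.range ((b t).left ≫ pfst i (V' t)).base ⊆ W := fun t => by
    haveI := hP t
    obtain ⟨K, hK, hKo, hsub, -⟩ := PrespectralSpace.exists_isCompact_and_isOpen_between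
      (isCompact_range ((b t).left ≫ pfst i (V' t)).continuous) isOpen_univ (Set.subset_univ _)
    exact ⟨⟨K, hKo⟩, hK, hsub⟩
  choose W hWc hWsub using hW
  let U : (Q a).left.Opens :=
    ⟨(Q a).hom.base ⁻¹' (Set.range i.base)ᶜ, i.isClosedEmbedding.isClosed_range.isOpen_compl.preimage (Q a).hom.continuous⟩
  have hUc : IsCompact (U : Set (Q a).left) := by
    have h1 : IsCompact ((Set.range i.base)ᶜ ∩ Set.range k.base) :=
      hr (isCompact_range k.continuous) k.isOpenEmbedding.isOpen_range
    have hopen : IsOpen ((Set.range i.base)ᶜ ∩ Set.range k.base : Set X) :=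
      i.isClosedEmbedding.isClosed_range.isOpen_compl.inter k.isOpenEmbedding.isOpen_range
    have h2 : IsCompact (k.base ⁻¹' ((Set.range i.base)ᶜ ∩ Set.range k.base)) :=
      k.isOpenEmbedding.isInducing.isCompact_preimage' h1 Set.inter_subset_right
    have h3 := h2.preimage_of_isOpen (e.hom ≫ Spec.map χ).isSpectralMap (hopen.preimage k.continuous)
    refine (congrArg IsCompact ?_).mp h3
    ext y
    show k.base ((e.hom ≫ Spec.map χ).base y) ∈ (Set.range i.base)ᶜ ∩ Set.range k.base ↔ (Q a).hom.base y ∈ (Set.range i.base)ᶜ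
    rw [← Scheme.Hom.comp_apply, Category.assoc, ← hQh]
    refine ⟨fun h => h.1, fun h => ⟨h, ?_⟩⟩
    rw [hQh, ← Category.assoc, Scheme.Hom.comp_apply]
    exact ⟨_, rfl⟩
  have hempty : IsEmpty ((ProEtS.bcP i).obj (opObj (Q a) U)).left := ⟨fun w => by
    have h1 : (pullback.fst (U.ι ≫ (Q a).hom) i ≫ U.ι ≫ (Q a).hom) = pullback.snd _ i ≫ i := pullback.condition
    have h2 := congrArg (fun z => z.base w) h1
    simp only [Scheme.Hom.comp_apply] at h2
    exact ((pullback.fst (U.ι ≫ (Q a).hom) i).base w).2 ⟨_, h2.symm⟩⟩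
  let R : Option κ → X.ProEt := fun o => o.elim (opObj (Q a) U) fun t => opObj (V' t) (W t)
  let r : ∀ o, R o ⟶ Q a := fun o => match o with
    | none => opHom (Q a) U
    | some t => opHom (V' t) (W t) ≫ c t
  haveI : ∀ o, CompactSpace (R o).left := fun o => match o with
    | none => isCompact_iff_compactSpace.mp hUc
    | some t => isCompact_iff_compactSpace.mp (hWc t)
  have hs : ∀ x, ∃ o, x ∈ Set.range (r o).left.base := fun x => by
    by_cases hx : (Q a).hom.base x ∈ Set.range i.base
    · obtain ⟨z, hz⟩ := hx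
      obtain ⟨x', hx', -⟩ := Scheme.Pullback.exists_preimage_pullback (f := (Q a).hom) (g := i) x z hz.symm
      obtain ⟨t, y, hy⟩ := hsurj x'
      refine ⟨some t, ⟨((b t).left ≫ pfst i (V' t)).base y, hWsub t ⟨y, rfl⟩⟩, ?_⟩
      show (c t).left.base (((b t).left ≫ pfst i (V' t)).base y) = x
      have e1 : ((b t).left ≫ pfst i (V' t)) ≫ (c t).left = (g t).left ≫ pfst i (Q a) := by
        rw [Category.assoc, ← bcP_map_fst, hb t, MorphismProperty.Comma.comp_left, Category.assoc]
      refine (Scheme.Hom.comp_apply _ _ _).symm.trans ((congrArg (fun z => z.base y) e1).trans ?_)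
      refine (Scheme.Hom.comp_apply _ _ _).trans ?_
      rw [hy]
      exact hx'
    · exact ⟨none, ⟨x, hx⟩, rfl⟩
  refine GrothendieckTopology.superset_covering _ ?_ (finite_compact_mem_topology R r hs)
  rintro T f ⟨_, d, _, ⟨o⟩, rfl⟩
  refine Sieve.downward_closed _ ?_ d
  match o with
  | none => exact hE _ hempty
  | some t => exact (S.pullback (q a)).downward_closed (hc t) _

/-- a sheaf vanishing on `Z` and away from `Z` is zero -/
theorem isZero_of_pull_of_empty [ProEtS.PCont i] (hr : IsRetrocompact (Set.range i.base)ᶜ)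
    (C : ProEtS.AbP X) (hC : IsZero ((ProEtS.pullP i).obj C))
    (hU : ∀ W : X.ProEt, IsEmpty ((ProEtS.bcP i).obj W).left → Subsingleton (C.obj.obj (op W))) :
    IsZero C := by
  refine isZero_of_sections C fun V => ⟨fun a b => sub_eq_zero.1 ?_⟩
  let s : C.obj.obj (op V) := a - b
  show s = 0
  let L := (ProEtS.bcP i).op.leftKanExtension C.obj
  have hL : IsZero ((presheafToSheaf (Scheme.ProEt.topology Z) AddCommGrpCat.{u + 1}).obj L) :=
    hC.of_iso ((Functor.sheafPullbackConstruction.sheafPullbackIso (ProEtS.bcP i) AddCommGrpCat.{u + 1}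
      (Scheme.ProEt.topology X) (Scheme.ProEt.topology Z)).app C).symm
  let x : L.obj (op ((ProEtS.bcP i).obj V)) :=
    ((ProEtS.bcP i).op.leftKanExtensionUnit C.obj).app (op V) s
  have hx : Presheaf.equalizerSieve (F := L) x 0 ∈ Scheme.ProEt.topology Z ((ProEtS.bcP i).obj V) :=
    Presheaf.equalizerSieve_mem (Scheme.ProEt.topology Z) (toSheafify _ L) x 0
      ((subsingleton_of_isZero hL _).elim _ _)
  refine eq_zero_of_cover C
    (mem_topology_of_bc i hr (Presheaf.equalizerSieve (F := C.obj) (X := op V) s 0) ?_ ?_) s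
    fun W f hf => hf.trans (map_zero _)
  · intro W f hW
    exact (hU W hW).elim _ _
  · refine GrothendieckTopology.superset_covering _ ?_ hx
    intro T f hf
    obtain ⟨V', b', c, hb, hc⟩ := exists_of_lan_zero i C.obj f s (hf.trans (map_zero _))
    exact ⟨V', c, b', hc.trans (map_zero _).symm, hb.symm⟩

end Groth.Agent.ProEtLib.CI
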