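import Groth.Agent.ProEtLib.Cover
import Groth.Agent.S0679
import Mathlib

/-! direct images along finite finitely presented morphisms are exact on pro-etale sheaves -/

set_option autoImplicit false

universe u

open CategoryTheory CategoryTheory.Limits AlgebraicGeometry Opposite

noncomputable section

set_option backward.isDefEq.respectTransparency false
set_option backward.isDefEq.respectTransparency.types false

namespace Groth.Agent.ProEtLib.FinitePush

variable {Z X : Scheme.{u}} (f : Z ⟶ X) [IsFinite f] [LocallyOfFinitePresentation f] [ProEtS.PCont f]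

omit [ProEtS.PCont f] in
theorem isWContractible_baseChange (V : X.ProEt) [IsAffine V.left] (h : EtPBC.IsWContractible Γ(V.left, ⊤)) :
    IsAffine ((ProEtS.bcP f).obj V).left ∧ EtPBC.IsWContractible Γ(((ProEtS.bcP f).obj V).left, ⊤) := by
  let g : ((ProEtS.bcP f).obj V).left ⟶ V.left := pullback.fst V.hom f
  haveI : IsFinite g := inferInstanceAs (IsFinite (pullback.fst V.hom f))
  haveI : LocallyOfFinitePresentation g := inferInstanceAs (LocallyOfFinitePresentation (pullback.fst V.hom f))
  haveI : IsAffine ((ProEtS.bcP f).obj V).left := isAffine_of_isAffineHom g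
  refine ⟨inferInstance, ?_⟩
  let := g.appTop.hom.toAlgebra
  haveI : Module.Finite Γ(V.left, ⊤) Γ(((ProEtS.bcP f).obj V).left, ⊤) :=
    ((HasAffineProperty.iff_of_isAffine (P := @IsFinite) (f := g)).1 inferInstance).2
  haveI : Algebra.FinitePresentation Γ(V.left, ⊤) Γ(((ProEtS.bcP f).obj V).left, ⊤) :=
    (HasRingHomProperty.iff_of_isAffine (P := @LocallyOfFinitePresentation) (f := g)).1 inferInstance
  exact Groth.Agent.S0679.result Γ(V.left, ⊤) Γ(((ProEtS.bcP f).obj V).left, ⊤) h

theorem pushP_preservesEpimorphisms : (ProEtS.pushP f).PreservesEpimorphisms := by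
  refine ⟨fun {F G} φ _ => ?_⟩
  haveI : Sheaf.IsLocallySurjective φ := (Sheaf.isLocallySurjective_iff_epi' _ φ).2 inferInstance
  refine (Sheaf.isLocallySurjective_iff_epi' _ _).1 ⟨fun {U} s => ?_⟩
  obtain ⟨ι, V, g, hg, hV⟩ := exists_wc_cover_family U
  refine (Scheme.ProEt.topology X).superset_covering ?_ hg
  rintro Y k ⟨V', a, b, ⟨i⟩, rfl⟩
  refine (Presheaf.imageSieve _ s).downward_closed ?_ a
  haveI := (hV i).1
  obtain ⟨ha, hw⟩ := isWContractible_baseChange f (V i) (hV i).2
  haveI := ha
  have hwc := isWC_of_criterion (criterion_of_wContractible hw)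
  let ψ := (sheafCompose (Scheme.ProEt.topology Z) (forget AddCommGrpCat.{u + 1})).map φ
  haveI : Epi ψ := (Sheaf.isLocallySurjective_iff_epi ψ).1 inferInstance
  exact hwc _ _ ψ inferInstance (((ProEtS.pushP f).obj G).obj.map (g i).op s)

theorem pushP_exact : PreservesFiniteLimits (ProEtS.pushP f) ∧ PreservesFiniteColimits (ProEtS.pushP f) := by
  have := pushP_preservesEpimorphisms f
  have : (ProEtS.pushP f).IsRightAdjoint := (ProEtS.pullPushAdjP f).isRightAdjoint
  have h1 : PreservesFiniteLimits (ProEtS.pushP f) := inferInstance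
  refine ⟨h1, ?_⟩
  rw [Functor.preservesFiniteColimits_iff_forall_exact_map_and_epi]
  intro S hS
  have := hS.epi_g
  refine ⟨?_, inferInstance⟩
  exact (((Functor.preservesFiniteLimits_tfae (ProEtS.pushP f)).out 3 0 rfl rfl).1 h1 S hS).1

end Groth.Agent.ProEtLib.FinitePush
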