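import Groth.Agent.ProEtLib.TopInvRing
import Groth.Agent.ProEtLib.Cover
import Groth.Agent.WStrictLib.WEtaleCover
import Groth.Agent.Pi1Ext.UHDescent
import Groth.Agent.MorLib.UnivHomeo
import Groth.Agent.S0425
import Mathlib

/-! topological invariance of the small pro-etale site -/

set_option autoImplicit false

universe u

open CategoryTheory CategoryTheory.Limits AlgebraicGeometry Opposite

noncomputable section

set_option backward.isDefEq.respectTransparency false
set_option backward.isDefEq.respectTransparency.types false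

namespace Groth.Agent.ProEtLib

variable {Z X : Scheme.{u}} (i : Z ⟶ X)

/-- the projection from a base change -/
abbrev pfst (V : X.ProEt) : ((ProEtS.bcP i).obj V).left ⟶ V.left := pullback.fst V.hom i

theorem bcP_map_fst {V W : X.ProEt} (g : V ⟶ W) :
    ((ProEtS.bcP i).map g).left ≫ pfst i W = pfst i V ≫ g.left :=
  pullback.lift_fst _ _ _

theorem bcP_map_snd {V W : X.ProEt} (g : V ⟶ W) :
    ((ProEtS.bcP i).map g).left ≫ pullback.snd W.hom i = pullback.snd V.hom i :=
  MorphismProperty.Over.w ((ProEtS.bcP i).map g)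

variable [IsIntegralHom i] [UniversallyInjective i] [Surjective i]

theorem pfst_props (V : X.ProEt) :
    IsIntegralHom (pfst i V) ∧ UniversallyInjective (pfst i V) ∧ Surjective (pfst i V) :=
  ⟨MorphismProperty.pullback_fst _ _ inferInstance,
    MorphismProperty.pullback_fst (P := @UniversallyInjective) _ _ ‹_›,
    MorphismProperty.pullback_fst (P := @Surjective) _ _ ‹_›⟩

theorem bijective_pfst (V : X.ProEt) : Function.Bijective (pfst i V).base := by
  obtain ⟨_, _, _⟩ := pfst_props i V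
  exact ⟨(pfst i V).injective, (pfst i V).surjective⟩

theorem bcP_faithful : (ProEtS.bcP i).Faithful where
  map_injective {V W} a b h := by
    haveI : WeaklyEtale W.hom := W.prop
    let Δ := pullback.diagonal W.hom
    let l : V.left ⟶ pullback W.hom W.hom :=
      pullback.lift a.left b.left ((MorphismProperty.Over.w a).trans (MorphismProperty.Over.w b).symm)
    let e := pullback.fst l Δ
    haveI : WeaklyEtale Δ := by
      haveI : WeaklyEtale (Δ ≫ pullback.fst W.hom W.hom) := by
        rw [pullback.diagonal_fst]; exact MorphismProperty.id_mem _ _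
      exact WeaklyEtale.of_comp Δ (pullback.fst W.hom W.hom)
    haveI : WeaklyEtale e := MorphismProperty.pullback_fst _ _ ‹_›
    haveI : Mono e := inferInstance
    have hab : pfst i V ≫ a.left = pfst i V ≫ b.left := by
      rw [← bcP_map_fst, ← bcP_map_fst, h]
    let c : ((ProEtS.bcP i).obj V).left ⟶ pullback l Δ := pullback.lift (pfst i V) (pfst i V ≫ a.left) (by
      refine pullback.hom_ext ?_ ?_
      · simp [l, Δ]
      · simp [l, Δ, hab])
    have hc : c ≫ e = pfst i V := pullback.lift_fst _ _ _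
    obtain ⟨_, _, _⟩ := pfst_props i V
    haveI : Surjective (c ≫ e) := hc.symm ▸ ‹Surjective (pfst i V)›
    haveI : Surjective e := Surjective.of_comp c e
    haveI : UniversallyInjective e :=
      ((tfae_universallyInjective e).out 0 1 rfl rfl).mpr fun K _ p q hpq => (cancel_mono e).mp hpq
    haveI : Surjective c := ⟨fun t => by
      obtain ⟨s, hs⟩ := (pfst i V).surjective (e.base t)
      exact ⟨s, e.injective (by rw [← Scheme.Hom.comp_apply, hc, hs])⟩⟩
    haveI : UniversallyClosed (c ≫ e) := hc.symm ▸ inferInstanceAs (UniversallyClosed (pfst i V))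
    haveI : UniversallyClosed e := UniversallyClosed.of_comp_surjective c e
    haveI : IsIso e := S0425.result e (MorLib.isUnivHomeo_of_universallyClosed e)
    refine MorphismProperty.Over.Hom.ext ?_
    have h0 := congrArg (· ≫ pullback.fst W.hom W.hom) (pullback.condition (f := l) (g := Δ))
    have h1 := congrArg (· ≫ pullback.snd W.hom W.hom) (pullback.condition (f := l) (g := Δ))
    simp only [l, Δ, Category.assoc, pullback.lift_fst, pullback.lift_snd, pullback.diagonal_fst,
      pullback.diagonal_snd, Category.comp_id] at h0 h1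
    exact (cancel_epi e).mp (h0.trans h1.symm)

/-- objects given by ind-etale algebras over affine opens -/
def IndPiece (W : X.ProEt) : Prop :=
  ∃ (A B : CommRingCat.{u}) (k : Spec A ⟶ X) (χ : A ⟶ B) (e : W.left ≅ Spec B),
    IsOpenImmersion k ∧ W.hom = e.hom ≫ Spec.map χ ≫ k ∧ (letI := χ.hom.toAlgebra; EtPBC.IsIndEtale A B)

/-- maps into ind-etale pieces come from the target -/
theorem exists_preimage_of_indPiece (V W : X.ProEt) (hW : IndPiece W)
    (h : (ProEtS.bcP i).obj V ⟶ (ProEtS.bcP i).obj W) : ∃ g : V ⟶ W, (ProEtS.bcP i).map g = h := by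
  obtain ⟨A, B, k, χ, e, hk, hWh, hind⟩ := hW
  letI := χ.hom.toAlgebra
  obtain ⟨J, _, _, D, c, hc, hD, ⟨ec⟩⟩ := hind
  let ep : c.pt.right ≅ B := (Under.forget A).mapIso ec
  have hep : c.pt.hom ≫ ep.hom = χ := Under.w ec.hom
  obtain ⟨_, _, _⟩ := pfst_props i V
  let hb : ((ProEtS.bcP i).obj V).left ⟶ Spec c.pt.right :=
    h.left ≫ pfst i W ≫ e.hom ≫ Spec.map ep.hom
  have hbh : hb ≫ Spec.map c.pt.hom ≫ k = pfst i V ≫ V.hom := by
    simp only [hb, Category.assoc, ← Spec.map_comp_assoc, hep, ← hWh]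
    refine (congrArg (h.left ≫ ·) pullback.condition).trans ?_
    refine (Category.assoc _ _ _).symm.trans ((congrArg (· ≫ i) (MorphismProperty.Over.w h)).trans ?_)
    exact pullback.condition.symm
  have hrange : Set.range V.hom.base ⊆ Set.range k.base := by
    rintro _ ⟨v, rfl⟩
    obtain ⟨v', rfl⟩ := (pfst i V).surjective v
    refine ⟨(hb ≫ Spec.map c.pt.hom).base v', ?_⟩
    exact (Scheme.Hom.comp_apply _ _ _).symm.trans
      ((congrArg (fun q => q.base v') ((Category.assoc _ _ _).trans hbh)).trans (Scheme.Hom.comp_apply _ _ _))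
  let t : V.left ⟶ Spec A := IsOpenImmersion.lift k V.hom hrange
  have ht : t ≫ k = V.hom := IsOpenImmersion.lift_fac _ _ _
  have hbt : hb ≫ Spec.map c.pt.hom = pfst i V ≫ t := by
    refine (cancel_mono k).mp ((Category.assoc _ _ _).trans (hbh.trans ?_))
    rw [Category.assoc, ht]
  have hE : ∀ j, Etale (Spec.map (D.obj j).hom) := fun j => by
    letI := (D.obj j).hom.hom.toAlgebra
    exact (HasRingHomProperty.Spec_iff (P := @Etale)).mpr (hD j)
  have hm : ∀ j, ∃ m : {m : V.left ⟶ Spec (D.obj j).right // m ≫ Spec.map (D.obj j).hom = t},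
      pfst i V ≫ m.1 = hb ≫ Spec.map (c.ι.app j).right := fun j => by
    haveI := hE j
    obtain ⟨m, hm⟩ := (Pi1Ext.UH.lifts_bijective (pfst i V) (Spec.map (D.obj j).hom) t).2
      ⟨hb ≫ Spec.map (c.ι.app j).right, by rw [Category.assoc, spec_ι_hom, hbt]⟩
    exact ⟨m, congrArg Subtype.val hm⟩
  choose m hm using hm
  obtain ⟨l, hl, hlh⟩ := exists_spec_lift c hc t (fun j => (m j).1) (fun j => (m j).2) fun {j j'} f => by
    haveI := hE j
    have h1 : (m j').1 ≫ Spec.map (D.map f).right ≫ Spec.map (D.obj j).hom = t := by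
      rw [← Spec.map_comp, Under.w, (m j').2]
    refine congrArg Subtype.val ((Pi1Ext.UH.lifts_bijective (pfst i V) (Spec.map (D.obj j).hom) t).1
      (a₁ := ⟨(m j').1 ≫ Spec.map (D.map f).right, (Category.assoc _ _ _).trans h1⟩) (a₂ := m j) (Subtype.ext ?_))
    show pfst i V ≫ (m j').1 ≫ Spec.map (D.map f).right = pfst i V ≫ (m j).1
    rw [← Category.assoc, hm, hm, Category.assoc, spec_ι_map c f]
  let g : V.left ⟶ W.left := l ≫ Spec.map ep.inv ≫ e.inv
  have hg : g ≫ W.hom = V.hom := by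
    simp only [g, hWh, Category.assoc, Iso.inv_hom_id_assoc, ← Spec.map_comp_assoc]
    rw [← hep, Category.assoc, Iso.hom_inv_id, Category.comp_id, reassoc_of% hlh, ht]
  refine ⟨MorphismProperty.Over.homMk g hg, MorphismProperty.Over.Hom.ext (pullback.hom_ext ?_ ?_)⟩
  · refine (bcP_map_fst i _).trans ?_
    show pfst i V ≫ g = h.left ≫ pfst i W
    have h2 : pfst i V ≫ l = hb := spec_hom_ext c hc fun j => by rw [Category.assoc, hl, hm]
    simp only [g]
    rw [← Category.assoc, h2]
    simp only [hb, Category.assoc, ← Spec.map_comp_assoc, Iso.inv_hom_id, Spec.map_id, Category.id_comp,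
      Iso.hom_inv_id, Category.comp_id]
  · exact (bcP_map_snd i _).trans (MorphismProperty.Over.w h).symm

omit [IsIntegralHom i] [UniversallyInjective i] [Surjective i] in
/-- affine opens over affine opens have covers by ind-etale pieces -/
theorem exists_indPiece_affine (U : X.ProEt) (O : U.left.Opens) (hO : IsAffineOpen O) {A : CommRingCat.{u}}
    (k : Spec A ⟶ X) [IsOpenImmersion k] (hOk : O ≤ U.hom ⁻¹ᵁ k.opensRange) :
    ∃ (P : X.ProEt) (g : P ⟶ opObj U O) (B : CommRingCat.{u}) (χ : A ⟶ B) (e : P.left ≅ Spec B),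
      Sieve.generate (Presieve.singleton g) ∈ Scheme.ProEt.topology X (opObj U O) ∧
        P.hom = e.hom ≫ Spec.map χ ≫ k ∧ (letI := χ.hom.toAlgebra; EtPBC.IsIndEtale A B) := by
  haveI : WeaklyEtale U.hom := U.prop
  let B := Γ(U.left, O)
  let j : Spec B ⟶ U.left := hO.fromSpec
  obtain ⟨χ, hχ⟩ := Spec.map_surjective (IsOpenImmersion.lift k (j ≫ U.hom) (by
    rintro _ ⟨t, rfl⟩
    rw [Scheme.Hom.comp_apply]
    exact hOk (hO.range_fromSpec.le ⟨t, rfl⟩)))
  have hc : Spec.map χ ≫ k = j ≫ U.hom := by rw [hχ, IsOpenImmersion.lift_fac]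
  haveI : WeaklyEtale (Spec.map χ) := by
    haveI : WeaklyEtale (Spec.map χ ≫ k) := by rw [hc]; infer_instance
    exact WeaklyEtale.of_comp (Spec.map χ) k
  letI := χ.hom.toAlgebra
  haveI : Algebra.WeaklyEtale A B := algebraWeaklyEtale_of_spec A B
  obtain ⟨B', _, _, _, _, hff, hBB', hAB'⟩ := WStrictLib.exists_indEtale_cover (A := A) (B := B)
  haveI : Algebra.WeaklyEtale B B' := S0736.result _ _ hBB'
  let ρ : B ⟶ CommRingCat.of B' := CommRingCat.ofHom (algebraMap B B')
  haveI : WeaklyEtale (Spec.map ρ) := weaklyEtale_spec B B'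
  haveI : Surjective (Spec.map ρ) := ⟨PrimeSpectrum.comap_surjective_of_faithfullyFlat⟩
  let p : Spec (CommRingCat.of B') ⟶ O := Spec.map ρ ≫ hO.isoSpec.inv
  let P : X.ProEt := Scheme.ProEt.mk (p ≫ O.ι ≫ U.hom)
  let g : P ⟶ opObj U O := MorphismProperty.Over.homMk p
  refine ⟨P, g, CommRingCat.of B', χ ≫ ρ, Iso.refl _, @singleton_mem_topology _ _ _ g (inferInstanceAs (QuasiCompact p))
    (inferInstanceAs (Surjective p)), ?_, ?_⟩
  · show (Spec.map ρ ≫ hO.isoSpec.inv) ≫ O.ι ≫ U.hom = 𝟙 _ ≫ Spec.map (χ ≫ ρ) ≫ k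
    rw [Category.id_comp, Spec.map_comp]
    refine Eq.trans ?_ ((Category.assoc _ _ _).trans (congrArg (Spec.map ρ ≫ ·) hc)).symm
    simp only [j, Category.assoc, IsAffineOpen.isoSpec_inv_ι_assoc]
  · have halg : ((χ ≫ ρ).hom.toAlgebra : Algebra A B') = ‹Algebra A B'› :=
      Algebra.algebra_ext _ _ fun a => (IsScalarTower.algebraMap_apply A B B' a).symm
    show @EtPBC.IsIndEtale A B' _ _ (χ ≫ ρ).hom.toAlgebra
    rw [halg]; exact hAB'

omit [IsIntegralHom i] [UniversallyInjective i] [Surjective i] in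
theorem exists_indPiece_cover (U : X.ProEt) :
    ∃ (ι : Type u) (P : ι → X.ProEt) (g : ∀ a, P a ⟶ U),
      Sieve.generate (Presieve.ofArrows P g) ∈ Scheme.ProEt.topology X U ∧ ∀ a, IndPiece (P a) := by
  have hx : ∀ x : U.left, ∃ (O : U.left.Opens) (_ : IsAffineOpen O) (_ : x ∈ O) (A : CommRingCat.{u})
      (k : Spec A ⟶ X) (_ : IsOpenImmersion k), O ≤ U.hom ⁻¹ᵁ k.opensRange := fun x => by
    obtain ⟨A, k, hk, hxk, -⟩ := Scheme.exists_affine_mem_range_and_range_subset
      (x := U.hom.base x) (U := (⊤ : X.Opens)) trivial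
    obtain ⟨O, hO, hxO, hOk⟩ := exists_isAffineOpen_mem_and_subset (x := x) (U := U.hom ⁻¹ᵁ k.opensRange)
      (show U.hom.base x ∈ k.opensRange from hxk)
    exact ⟨O, hO, hxO, A, k, hk, hOk⟩
  choose O hO hxO A k hk hOk using hx
  have hP := fun x => @exists_indPiece_affine _ U (O x) (hO x) (A x) (k x) (hk x) (hOk x)
  choose P g B χ e hg hPh hind using hP
  have hP : ∀ x, IndPiece (P x) := fun x => ⟨A x, B x, k x, χ x, e x, hk x, hPh x, hind x⟩
  refine ⟨U.left, P, fun x => g x ≫ opHom U (O x), ?_, hP⟩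
  refine mem_topology_of_family _ _ _ (opens_mem_topology U O fun x => ⟨x, hxO x⟩) fun x => ?_
  refine GrothendieckTopology.superset_covering _ ?_ (hg x)
  rintro Y f ⟨Y', a, _, ⟨⟩, rfl⟩
  exact ⟨_, a, _, ⟨x⟩, by simp⟩

theorem bcP_isCoverDense : (ProEtS.bcP i).IsCoverDense (Scheme.ProEt.topology Z) where
  is_cover U := by
    haveI : WeaklyEtale U.hom := U.prop
    have hx : ∀ x : U.left, ∃ (O : U.left.Opens) (_ : IsAffineOpen O) (_ : x ∈ O) (A : CommRingCat.{u})
        (k : Spec A ⟶ X) (_ : IsOpenImmersion k),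
        O ≤ (U.hom ≫ i) ⁻¹ᵁ k.opensRange := fun x => by
      obtain ⟨A, k, hk, hxk, -⟩ := Scheme.exists_affine_mem_range_and_range_subset
        (x := (U.hom ≫ i).base x) (U := (⊤ : X.Opens)) trivial
      obtain ⟨O, hO, hxO, hOk⟩ := exists_isAffineOpen_mem_and_subset (x := x)
        (U := (U.hom ≫ i) ⁻¹ᵁ k.opensRange) (show (U.hom ≫ i).base x ∈ k.opensRange from hxk)
      exact ⟨O, hO, hxO, A, k, hk, hOk⟩
    choose O hO hxO A k hk hOk using hx
    refine mem_topology_of_family _ _ _ (opens_mem_topology U O fun x => ⟨x, hxO x⟩) fun x => ?_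
    haveI := hk x
    haveI : IsAffine (pullback i (k x)) := isAffine_of_isAffineHom (pullback.snd i (k x))
    let A' := Γ(pullback i (k x), ⊤)
    let k' : Spec A' ⟶ Z := (pullback i (k x)).isoSpec.inv ≫ pullback.fst i (k x)
    haveI : IsOpenImmersion k' := inferInstance
    obtain ⟨φ, hφ⟩ := Spec.map_surjective ((pullback i (k x)).isoSpec.inv ≫ pullback.snd i (k x))
    have sq : IsPullback k' (Spec.map φ) i (k x) := by
      refine (IsPullback.of_hasPullback i (k x)).of_iso (pullback i (k x)).isoSpec (Iso.refl _) (Iso.refl _)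
        (Iso.refl _) ?_ ?_ (by simp) (by simp)
      · simp [k']
      · simp [hφ]
    haveI : IsIntegralHom (Spec.map φ) := MorphismProperty.of_isPullback sq ‹_›
    haveI : UniversallyInjective (Spec.map φ) := MorphismProperty.of_isPullback (P := @UniversallyInjective) sq ‹_›
    haveI : Surjective (Spec.map φ) := MorphismProperty.of_isPullback (P := @Surjective) sq ‹_›
    have hOk' : O x ≤ U.hom ⁻¹ᵁ k'.opensRange := fun y hy => by
      obtain ⟨a, ha⟩ := hOk x hy
      rw [Scheme.Hom.comp_apply] at ha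
      obtain ⟨w, hw, -⟩ := Scheme.Pullback.exists_preimage_pullback (f := i) (g := k x) (U.hom.base y) a ha.symm
      exact ⟨(pullback i (k x)).isoSpec.hom.base w, by
        rw [← Scheme.Hom.comp_apply]
        simp only [k', Iso.hom_inv_id_assoc]
        exact hw⟩
    obtain ⟨P, g, B, ψ, e, hg, hPh, hind⟩ := exists_indPiece_affine U (O x) (hO x) k' hOk'
    obtain ⟨C, χ, a₀, hC, sqC⟩ := exists_indEtale_descent φ B ψ hind
    letI := χ.hom.toAlgebra
    haveI : Algebra.WeaklyEtale (A x) C := S0736.result _ _ hC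
    haveI : WeaklyEtale (Spec.map χ) := weaklyEtale_spec (A x) C
    let V₀ : X.ProEt := Scheme.ProEt.mk (Spec.map χ ≫ k x)
    have sq2 : IsPullback a₀ (Spec.map ψ ≫ k') (Spec.map χ ≫ k x) i := sqC.paste_vert sq.flip
    let ev : (ProEtS.bcP i).obj V₀ ≅ P :=
      MorphismProperty.Over.isoMk (sq2.isoPullback.symm ≪≫ e.symm) (by
        show (sq2.isoPullback.inv ≫ e.inv) ≫ P.hom = pullback.snd (Spec.map χ ≫ k x) i
        rw [hPh, Category.assoc, Iso.inv_hom_id_assoc, IsPullback.isoPullback_inv_snd])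
    refine GrothendieckTopology.superset_covering _ ?_ hg
    rintro Y f ⟨_, a, _, ⟨⟩, rfl⟩
    refine Sieve.downward_closed _ ?_ a
    exact ⟨⟨V₀, ev.inv, ev.hom ≫ g ≫ opHom U (O x), by rw [Iso.inv_hom_id_assoc]⟩⟩

theorem bcP_reflects {V : X.ProEt} (S : Sieve V)
    (hS : S.functorPushforward (ProEtS.bcP i) ∈ Scheme.ProEt.topology Z ((ProEtS.bcP i).obj V)) :
    S ∈ Scheme.ProEt.topology X V := by
  obtain ⟨T, hT, hTS⟩ := (mem_topology_iff _).1 hS
  obtain ⟨ι, Y, q, rfl⟩ := T.exists_eq_ofArrows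
  have h : ∀ t, ∃ (W : X.ProEt) (g : W ⟶ V) (a : Y t ⟶ (ProEtS.bcP i).obj W),
      S g ∧ q t = a ≫ (ProEtS.bcP i).map g := fun t => hTS _ _ (Presieve.ofArrows.mk t)
  choose W g a hg hq using h
  rw [mem_topology_iff]
  refine ⟨Presieve.ofArrows W g, ?_, ?_⟩
  swap
  · rintro _ _ ⟨t⟩; exact hg t
  rw [ofArrows_mem_precoverage_iff, mem_proetalePrecoverage_iff] at hT ⊢
  obtain ⟨hqc, hsurj, -⟩ := hT
  have hpt : ∀ t w, (g t).left.base ((pfst i (W t)).base w) =
      (pfst i V).base (((ProEtS.bcP i).map (g t)).left.base w) := fun t w => by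
    rw [← Scheme.Hom.comp_apply, ← Scheme.Hom.comp_apply, bcP_map_fst]
  refine ⟨?_, fun x => ?_, fun t => weaklyEtale_left (g t)⟩
  · let 𝒯 := PreZeroHypercover.mk ι (fun t => (Y t).left) (fun t => (q t).left)
    let 𝒰 := PreZeroHypercover.mk ι (fun t => ((ProEtS.bcP i).obj (W t)).left)
      (fun t => ((ProEtS.bcP i).map (g t)).left)
    haveI : QuasiCompactCover 𝒯 := hqc
    haveI : QuasiCompactCover 𝒰 := QuasiCompactCover.of_hom (𝒱 := 𝒯)
      { s₀ := id
        h₀ := fun t => (a t).left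
        w₀ := fun t => by
          show (a t).left ≫ ((ProEtS.bcP i).map (g t)).left = (q t).left
          rw [hq t]; rfl }
    refine ⟨fun {O} hO => ?_⟩
    obtain ⟨_, _, _⟩ := pfst_props i V
    obtain ⟨s, hs, K, hK, hcov⟩ := (hO.preimage (pfst i V)).isCompactOpenCovered 𝒰
    refine ⟨s, hs, fun t ht => ⟨(pfst i (W t)).base '' (K t ht : Set _), ?_⟩, fun t ht => ?_, ?_⟩
    · obtain ⟨_, _, _⟩ := pfst_props i (W t)
      rw [← isClosed_compl_iff, ← Set.image_compl_eq (bijective_pfst i (W t))]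
      exact (pfst i (W t)).isClosedMap _ (K t ht).2.isClosed_compl
    · exact (hK t ht).image (pfst i (W t)).continuous
    · refine Eq.trans ?_ (Set.image_preimage_eq (O : Set V.left) (pfst i V).surjective)
      show _ = (pfst i V).base '' ((pfst i V ⁻¹ᵁ O : ((ProEtS.bcP i).obj V).left.Opens) : Set _)
      rw [← hcov, Set.image_iUnion₂]
      refine Set.iUnion₂_congr fun t ht => ?_
      show (g t).left.base '' ((pfst i (W t)).base '' _) = _
      rw [Set.image_image, Set.image_image]
      exact Set.image_congr fun w _ => hpt t w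
  · obtain ⟨x', rfl⟩ := (bijective_pfst i V).2 x
    obtain ⟨t, y, hy⟩ := hsurj x'
    refine ⟨t, (pfst i (W t)).base ((a t).left.base y), ?_⟩
    rw [hpt, ← Scheme.Hom.comp_apply (a t).left, show (a t).left ≫ ((ProEtS.bcP i).map (g t)).left = (q t).left by
      rw [hq t]; rfl]
    exact congrArg _ hy

theorem bcP_mem_iff {V : X.ProEt} {S : Sieve V} :
    S.functorPushforward (ProEtS.bcP i) ∈ Scheme.ProEt.topology Z ((ProEtS.bcP i).obj V) ↔
      S ∈ Scheme.ProEt.topology X V := by
  refine ⟨bcP_reflects i S, fun h => ?_⟩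
  obtain ⟨T, hT, hTS⟩ := (mem_topology_iff _).1 h
  obtain ⟨ι, Y, q, rfl⟩ := T.exists_eq_ofArrows
  have h2 := precoverage_le_comap_bcP i _ hT
  rw [Precoverage.mem_comap_iff, Presieve.map_ofArrows] at h2
  refine (mem_topology_iff _).2 ⟨_, h2, ?_⟩
  rintro _ _ ⟨t⟩
  exact Sieve.image_mem_functorPushforward _ _ (hTS _ _ (Presieve.ofArrows.mk t))

theorem bcP_isLocallyFull : (ProEtS.bcP i).IsLocallyFull (Scheme.ProEt.topology Z) where
  functorPushforward_imageSieve_mem {V W} h := by
    refine (bcP_mem_iff i).2 ?_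
    obtain ⟨ι, Q, q, hq, hQ⟩ := exists_indPiece_cover V
    refine mem_topology_of_family _ _ _ hq fun a => ?_
    obtain ⟨κ, P, p, hp, hP⟩ := exists_indPiece_cover W
    let h' := (ProEtS.bcP i).map (q a) ≫ h
    let R := ((Sieve.generate (Presieve.ofArrows P p)).functorPushforward (ProEtS.bcP i)).pullback h'
    have hR : R ∈ Scheme.ProEt.topology Z ((ProEtS.bcP i).obj (Q a)) :=
      (Scheme.ProEt.topology Z).pullback_stable h' ((bcP_mem_iff i).2 hp)
    have hS : Sieve.functorPullback (ProEtS.bcP i) R ∈ Scheme.ProEt.topology X (Q a) := by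
      refine bcP_reflects i _ ((Scheme.ProEt.topology Z).transitive hR _ fun T₁ f hf => ?_)
      have := bcP_isCoverDense i
      refine GrothendieckTopology.superset_covering _ ?_ (Functor.IsCoverDense.is_cover (G := ProEtS.bcP i) T₁)
      rintro T₂ c ⟨⟨V', l, m, rfl⟩⟩
      obtain ⟨g, hg⟩ := exists_preimage_of_indPiece i V' (Q a) (hQ a) (m ≫ f)
      refine ⟨V', g, l, ?_, ?_⟩
      · show R ((ProEtS.bcP i).map g)
        rw [hg]
        exact R.downward_closed hf m
      · rw [hg, Category.assoc]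
    refine GrothendieckTopology.superset_covering _ ?_ hS
    intro T₁ f hf
    obtain ⟨T₂, g', r, ⟨T₃, r', _, ⟨b⟩, hgp⟩, e⟩ := hf
    subst hgp
    obtain ⟨r'', hr''⟩ := exists_preimage_of_indPiece i T₁ (P b) (hP b) (r ≫ (ProEtS.bcP i).map r')
    refine ⟨r'' ≫ p b, ?_⟩
    rw [Functor.map_comp, hr'', Category.assoc, ← Functor.map_comp, Functor.map_comp (ProEtS.bcP i) f (q a),
      Category.assoc]
    exact e.symm

theorem bcP_isDenseSubsite :
    (ProEtS.bcP i).IsDenseSubsite (Scheme.ProEt.topology X) (Scheme.ProEt.topology Z) :=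
  haveI := bcP_isCoverDense i
  haveI := bcP_isLocallyFull i
  haveI := bcP_faithful i
  { functorPushforward_mem_iff := bcP_mem_iff i }

theorem pushP_isEquivalence [ProEtS.PCont i] : (ProEtS.pushP i).IsEquivalence := by
  haveI := bcP_isDenseSubsite i
  infer_instance

end Groth.Agent.ProEtLib
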