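import Groth.Agent.EtFound.TopInvEquiv
import Groth.Agent.ChevGen.Main
import Groth.Agent.ProEtLib.Basic
import Groth.Agent.ProEtLib.Ring
import Groth.Prelude.Def_PBC
import Mathlib

/-! ind-etale algebras along universal homeomorphisms -/

set_option autoImplicit false

universe u

open CategoryTheory CategoryTheory.Limits AlgebraicGeometry Opposite

noncomputable section

set_option backward.isDefEq.respectTransparency false
set_option backward.isDefEq.respectTransparency.types false

namespace Groth.Agent.ProEtLib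

section colim

variable {A : CommRingCat.{u}} {J : Type u} [SmallCategory J] [IsFiltered J] {D : J ⥤ Under A}
  (c : Cocone D) (hc : IsColimit c)

theorem spec_ι_hom (j : J) : Spec.map (c.ι.app j).right ≫ Spec.map (D.obj j).hom = Spec.map c.pt.hom := by
  rw [← Spec.map_comp, Under.w]
  rfl

theorem spec_ι_map {j k : J} (f : j ⟶ k) :
    Spec.map (c.ι.app k).right ≫ Spec.map (D.map f).right = Spec.map (c.ι.app j).right := by
  rw [← Spec.map_comp, ← Under.comp_right, c.w]

include hc

/-- maps into the spectrum of a colimit are compatible families -/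
theorem exists_spec_lift {T : Scheme.{u}} (t : T ⟶ Spec A) (m : ∀ j, T ⟶ Spec (D.obj j).right)
    (hm : ∀ j, m j ≫ Spec.map (D.obj j).hom = t)
    (hcompat : ∀ {j k : J} (f : j ⟶ k), m k ≫ Spec.map (D.map f).right = m j) :
    ∃ l : T ⟶ Spec c.pt.right, (∀ j, l ≫ Spec.map (c.ι.app j).right = m j) ∧ l ≫ Spec.map c.pt.hom = t := by
  let α : A ⟶ Γ(T, ⊤) := (ΓSpec.adjunction.homEquiv T (op A)).symm t |>.unop
  let μ : ∀ j, (D.obj j).right ⟶ Γ(T, ⊤) := fun j => ((ΓSpec.adjunction.homEquiv T (op (D.obj j).right)).symm (m j)).unop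
  have key : ∀ (R R' : CommRingCat.{u}) (g : R ⟶ R') (x : T ⟶ Spec R'),
      ((ΓSpec.adjunction.homEquiv T (op R)).symm (x ≫ Spec.map g)).unop =
        g ≫ ((ΓSpec.adjunction.homEquiv T (op R')).symm x).unop := fun R R' g x =>
    congrArg Quiver.Hom.unop (ΓSpec.adjunction.homEquiv_naturality_right_symm x g.op)
  let s : Cocone D :=
    { pt := Under.mk α
      ι :=
        { app := fun j => Under.homMk (μ j) (by
            show (D.obj j).hom ≫ μ j = α
            rw [← key, hm j])
          naturality := fun j k f => by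
            apply Under.UnderMorphism.ext
            show (D.map f).right ≫ μ k = μ j ≫ 𝟙 _
            rw [← key, hcompat f, Category.comp_id] } }
  let d := hc.desc s
  refine ⟨ΓSpec.adjunction.homEquiv T (op c.pt.right) d.right.op, fun j => ?_, ?_⟩
  · apply (ΓSpec.adjunction.homEquiv T (op (D.obj j).right)).symm.injective
    apply Quiver.Hom.unop_inj
    rw [key, Equiv.symm_apply_apply]
    exact congrArg CommaMorphism.right (hc.fac s j)
  · apply (ΓSpec.adjunction.homEquiv T (op A)).symm.injective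
    apply Quiver.Hom.unop_inj
    rw [key, Equiv.symm_apply_apply]
    exact Under.w d

theorem spec_hom_ext {T : Scheme.{u}} {l l' : T ⟶ Spec c.pt.right}
    (h : ∀ j, l ≫ Spec.map (c.ι.app j).right = l' ≫ Spec.map (c.ι.app j).right) : l = l' := by
  have h' := isColimitOfPreserves (Under.forget A) hc
  apply (ΓSpec.adjunction.homEquiv T (op c.pt.right)).symm.injective
  apply Quiver.Hom.unop_inj
  refine h'.hom_ext fun j => ?_
  have key : ∀ (R R' : CommRingCat.{u}) (g : R ⟶ R') (x : T ⟶ Spec R'),
      ((ΓSpec.adjunction.homEquiv T (op R)).symm (x ≫ Spec.map g)).unop =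
        g ≫ ((ΓSpec.adjunction.homEquiv T (op R')).symm x).unop := fun R R' g x =>
    congrArg Quiver.Hom.unop (ΓSpec.adjunction.homEquiv_naturality_right_symm x g.op)
  show (c.ι.app j).right ≫ _ = (c.ι.app j).right ≫ _
  exact (key _ _ (c.ι.app j).right l).symm.trans
    ((congrArg (fun x => ((ΓSpec.adjunction.homEquiv T (op (D.obj j).right)).symm x).unop) (h j)).trans
      (key _ _ (c.ι.app j).right l'))

end colim

theorem isoSpec_spec {V : Scheme.{u}} [IsAffine V] {A : CommRingCat.{u}} (h : V ⟶ Spec A) :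
    V.isoSpec.hom ≫ Spec.map ((Scheme.ΓSpecIso A).inv ≫ h.appTop) = h := by
  rw [Spec.map_comp, ← Category.assoc, Scheme.isoSpec_hom_naturality, Category.assoc, Scheme.isoSpec_Spec_hom,
    ← Spec.map_comp, Iso.inv_hom_id, Spec.map_id, Category.comp_id]

/-- an affine etale scheme from its base change -/
theorem isAffine_of_bc {X Z : Scheme.{u}} (i : Z ⟶ X) [IsIntegralHom i] [Surjective i] (V : X.Etale)
    [IsAffine ((EtCoh.bc i).obj V).left] : IsAffine V.left := by
  haveI : IsAffine (pullback V.hom i) := ‹IsAffine ((EtCoh.bc i).obj V).left›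
  haveI : IsIntegralHom (pullback.fst V.hom i) := MorphismProperty.pullback_fst _ _ inferInstance
  haveI : Surjective (pullback.fst V.hom i) := MorphismProperty.pullback_fst (P := @Surjective) _ _ ‹_›
  exact ChevGen.isAffine_of_universallyClosed_surjective (pullback.fst V.hom i)

/-- ind-etale algebras descend along universal homeomorphisms -/
theorem exists_indEtale_descent {A A' : CommRingCat.{u}} (φ : A ⟶ A') [IsIntegralHom (Spec.map φ)]
    [UniversallyInjective (Spec.map φ)] [Surjective (Spec.map φ)] (B : CommRingCat.{u}) (ψ : A' ⟶ B)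
    (h : letI := ψ.hom.toAlgebra; EtPBC.IsIndEtale A' B) :
    ∃ (C : CommRingCat.{u}) (χ : A ⟶ C) (a : Spec B ⟶ Spec C),
      (letI := χ.hom.toAlgebra; EtPBC.IsIndEtale A C) ∧
        IsPullback a (Spec.map ψ) (Spec.map χ) (Spec.map φ) := by
  letI := ψ.hom.toAlgebra
  obtain ⟨J, _, _, D, c, hc, hD, ⟨e⟩⟩ := h
  haveI := EtFound.UH.bc_isEquivalence (Spec.map φ)
  let G := EtCoh.bc (Spec.map φ)
  -- the etale schemes over the source
  have hDE : ∀ j, Etale (Spec.map (D.obj j).hom) := fun j => by
    letI := (D.obj j).hom.hom.toAlgebra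
    exact (HasRingHomProperty.Spec_iff (P := @Etale)).mpr (hD j)
  let Uo : J → (Spec A').Etale := fun j => haveI := hDE j; Scheme.Etale.mk (Spec.map (D.obj j).hom)
  let Um : ∀ {j k : J}, (j ⟶ k) → (Uo k ⟶ Uo j) := fun {j k} f =>
    MorphismProperty.Over.homMk (Spec.map (D.map f).right) (by
      show Spec.map (D.map f).right ≫ Spec.map (D.obj j).hom = Spec.map (D.obj k).hom
      rw [← Spec.map_comp, Under.w])
  let V : J → (Spec A).Etale := fun j => G.objPreimage (Uo j)
  let eV : ∀ j, G.obj (V j) ≅ Uo j := fun j => G.objObjPreimageIso (Uo j)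
  haveI hVA : ∀ j, IsAffine (V j).left := fun j => by
    haveI : IsAffine (G.obj (V j)).left := by
      haveI : IsIso (eV j).hom.left := ⟨(eV j).inv.left, congrArg (fun k => k.left) (eV j).hom_inv_id,
        congrArg (fun k => k.left) (eV j).inv_hom_id⟩
      haveI : IsAffine (Uo j).left := inferInstanceAs (IsAffine (Spec (D.obj j).right))
      exact IsAffine.of_isIso (eV j).hom.left
    exact isAffine_of_bc (Spec.map φ) (V j)
  let Vm : ∀ {j k : J}, (j ⟶ k) → (V k ⟶ V j) := fun {j k} f => G.preimage ((eV k).hom ≫ Um f ≫ (eV j).inv)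
  have hVm : ∀ {j k : J} (f : j ⟶ k), G.map (Vm f) = (eV k).hom ≫ Um f ≫ (eV j).inv := fun f => G.map_preimage _
  have hVid : ∀ j, Vm (𝟙 j) = 𝟙 (V j) := fun j => G.map_injective (by
    rw [hVm, G.map_id]
    have : Um (𝟙 j) = 𝟙 (Uo j) := MorphismProperty.Over.Hom.ext (by
      show Spec.map (D.map (𝟙 j)).right = 𝟙 (Spec (D.obj j).right)
      rw [D.map_id, Under.id_right, Spec.map_id]
      )
    rw [this, Category.id_comp, Iso.hom_inv_id])
  have hVcomp : ∀ {j k l : J} (f : j ⟶ k) (g : k ⟶ l), Vm (f ≫ g) = Vm g ≫ Vm f := fun {j k l} f g =>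
    G.map_injective (by
      rw [G.map_comp, hVm, hVm, hVm]
      have : Um (f ≫ g) = Um g ≫ Um f := MorphismProperty.Over.Hom.ext (by
        show Spec.map (D.map (f ≫ g)).right = Spec.map (D.map g).right ≫ Spec.map (D.map f).right
        rw [D.map_comp, Under.comp_right, Spec.map_comp])
      simp [this])
  -- their rings
  let hom : ∀ j, A ⟶ Γ((V j).left, ⊤) := fun j => (Scheme.ΓSpecIso A).inv ≫ (V j).hom.appTop
  let Cd : J ⥤ Under A :=
    { obj := fun j => Under.mk (hom j)
      map := fun {j k} f => Under.homMk (Vm f).left.appTop (by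
        show hom j ≫ (Vm f).left.appTop = hom k
        simp only [hom, Category.assoc, ← Scheme.Hom.comp_appTop]
        rw [MorphismProperty.Over.w])
      map_id := fun j => by
        apply Under.UnderMorphism.ext
        show (Vm (𝟙 j)).left.appTop = 𝟙 _
        rw [hVid]; rfl
      map_comp := fun {j k l} f g => by
        apply Under.UnderMorphism.ext
        show (Vm (f ≫ g)).left.appTop = (Vm f).left.appTop ≫ (Vm g).left.appTop
        rw [hVcomp, MorphismProperty.Comma.comp_left, Scheme.Hom.comp_appTop] }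
  let cC := colimit.cocone Cd
  let C := cC.pt.right
  have hspec : ∀ j, (V j).left.isoSpec.hom ≫ Spec.map (hom j) = (V j).hom := fun j => @isoSpec_spec _ (hVA j) A (V j).hom
  have hind : letI := cC.pt.hom.hom.toAlgebra; EtPBC.IsIndEtale A C := by
    letI := cC.pt.hom.hom.toAlgebra
    refine ⟨J, inferInstance, inferInstance, Cd, cC, colimit.isColimit Cd, fun j => ?_, ⟨Iso.refl _⟩⟩
    letI := (Cd.obj j).hom.hom.toAlgebra
    have : Etale (Spec.map (hom j)) := by
      have h1 : Spec.map (hom j) = (V j).left.isoSpec.inv ≫ (V j).hom := by rw [← hspec j]; simp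
      haveI : Etale (V j).hom := (V j).prop
      rw [h1]; infer_instance
    exact (HasRingHomProperty.Spec_iff (P := @Etale)).mp this
  -- `Spec B` over `Spec C`
  let ep : c.pt.right ≅ B := (Under.forget A').mapIso e
  have hep : c.pt.hom ≫ ep.hom = ψ := Under.w e.hom
  let u : ∀ j, Spec B ⟶ (V j).left := fun j =>
    Spec.map ep.hom ≫ Spec.map (c.ι.app j).right ≫ (eV j).inv.left ≫ pullback.fst (V j).hom (Spec.map φ)
  have hinv : ∀ j, (eV j).inv.left ≫ pullback.snd (V j).hom (Spec.map φ) = Spec.map (D.obj j).hom := fun j =>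
    MorphismProperty.Over.w (eV j).inv
  have hu : ∀ j, u j ≫ (V j).hom = Spec.map ψ ≫ Spec.map φ := fun j => by
    simp only [u, Category.assoc, pullback.condition]
    rw [reassoc_of% (hinv j), reassoc_of% (spec_ι_hom c j), ← Spec.map_comp_assoc, hep]
  have huc : ∀ {j k : J} (f : j ⟶ k), u k ≫ (Vm f).left = u j := fun {j k} f => by
    have h1 := (EtCoh.isPullback_bc_map (Spec.map φ) (Vm f)).w
    have h2 : (eV k).inv.left ≫ (G.map (Vm f)).left = Spec.map (D.map f).right ≫ (eV j).inv.left :=
      congrArg (fun q => q.left) (show (eV k).inv ≫ G.map (Vm f) = Um f ≫ (eV j).inv by rw [hVm]; simp)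
    simp only [u, Category.assoc]
    rw [← h1, reassoc_of% h2, reassoc_of% (spec_ι_map c f)]
  obtain ⟨a, ha, hah⟩ := exists_spec_lift cC (colimit.isColimit Cd) (Spec.map ψ ≫ Spec.map φ)
    (fun j => u j ≫ (V j).left.isoSpec.hom) (fun j => by
      show (u j ≫ (V j).left.isoSpec.hom) ≫ Spec.map (hom j) = _
      rw [Category.assoc, hspec, hu]) (fun {j k} f => by
      show (u k ≫ (V k).left.isoSpec.hom) ≫ Spec.map (Vm f).left.appTop = _
      rw [Category.assoc, Scheme.isoSpec_hom_naturality, ← Category.assoc, huc])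
  suffices hex : ∀ s : PullbackCone (Spec.map cC.pt.hom) (Spec.map φ), ∃ l : s.pt ⟶ Spec B,
      l ≫ a = s.fst ∧ l ≫ Spec.map ψ = s.snd ∧ ∀ n, n ≫ a = s.fst → n ≫ Spec.map ψ = s.snd → n = l from
    ⟨C, cC.pt.hom, a, hind, IsPullback.of_isLimit (PullbackCone.isLimitAux'
      (PullbackCone.mk a (Spec.map ψ) hah) fun s => ⟨(hex s).choose, (hex s).choose_spec.1,
        (hex s).choose_spec.2.1, fun {n} h₁ h₂ => (hex s).choose_spec.2.2 n h₁ h₂⟩)⟩
  intro s
  let r : ∀ j, s.pt ⟶ (V j).left := fun j => s.fst ≫ Spec.map (cC.ι.app j).right ≫ (V j).left.isoSpec.inv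
  have hr : ∀ j, r j ≫ (V j).hom = s.snd ≫ Spec.map φ := fun j => by
    have h1 : (V j).left.isoSpec.inv ≫ (V j).hom = Spec.map (hom j) := by rw [← hspec j]; simp
    simp only [r, Category.assoc, h1]
    rw [← s.condition]
    exact congrArg (s.fst ≫ ·) (spec_ι_hom cC j)
  have hrc : ∀ {j k : J} (f : j ⟶ k), r k ≫ (Vm f).left = r j := fun {j k} f => by
    simp only [r, Category.assoc]
    rw [← Scheme.isoSpec_inv_naturality]
    exact congrArg (s.fst ≫ ·) ((Category.assoc _ _ _).symm.trans
      (congrArg (· ≫ (V j).left.isoSpec.inv) (spec_ι_map cC f)))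
  let m : ∀ j, s.pt ⟶ Spec (D.obj j).right := fun j =>
    pullback.lift (r j) s.snd (hr j) ≫ (eV j).hom.left
  have hom' : ∀ j, (eV j).hom.left ≫ Spec.map (D.obj j).hom = pullback.snd (V j).hom (Spec.map φ) := fun j =>
    MorphismProperty.Over.w (eV j).hom
  obtain ⟨l, hl, hlh⟩ := exists_spec_lift c hc s.snd m (fun j => by
    simp only [m, Category.assoc, hom']
    exact pullback.lift_snd _ _ _) (fun {j k} f => by
    have h2 : (eV k).hom.left ≫ Spec.map (D.map f).right = (G.map (Vm f)).left ≫ (eV j).hom.left :=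
      congrArg (fun q => q.left) (show (eV k).hom ≫ Um f = G.map (Vm f) ≫ (eV j).hom by rw [hVm]; simp)
    simp only [m, Category.assoc, h2]
    rw [← Category.assoc]
    refine congrArg (· ≫ (eV j).hom.left) (pullback.hom_ext ?_ ?_)
    · rw [Category.assoc]
      refine (congrArg (_ ≫ ·) (EtCoh.isPullback_bc_map (Spec.map φ) (Vm f)).w).trans ?_
      rw [pullback.lift_fst_assoc, pullback.lift_fst, hrc]
    · rw [Category.assoc]
      refine (congrArg (_ ≫ ·) (MorphismProperty.Over.w (G.map (Vm f)))).trans ?_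
      exact (pullback.lift_snd _ _ _).trans (pullback.lift_snd _ _ _).symm)
  have hψ : Spec.map ep.inv ≫ Spec.map ψ = Spec.map c.pt.hom := by
    rw [← Spec.map_comp, ← hep, Category.assoc, Iso.hom_inv_id, Category.comp_id]
  have hinvhom : ∀ j, (eV j).hom.left ≫ (eV j).inv.left = 𝟙 _ := fun j =>
    congrArg (fun q => q.left) (eV j).hom_inv_id
  have hlu : ∀ j, (l ≫ Spec.map ep.inv) ≫ u j = r j := fun j => by
    simp only [u, Category.assoc, ← Spec.map_comp_assoc]
    simp only [Category.assoc, Iso.hom_inv_id, Category.comp_id]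
    rw [reassoc_of% (hl j)]
    simp only [m, Category.assoc, reassoc_of% (hinvhom j)]
    exact pullback.lift_fst _ _ _
  refine ⟨l ≫ Spec.map ep.inv, spec_hom_ext cC (colimit.isColimit Cd) fun j => ?_, ?_, fun n hn₁ hn₂ => ?_⟩
  · show ((l ≫ Spec.map ep.inv) ≫ a) ≫ _ = s.fst ≫ _
    rw [Category.assoc, ha, ← Category.assoc, hlu]
    simp [r]
  · show (l ≫ Spec.map ep.inv) ≫ Spec.map ψ = s.snd
    rw [Category.assoc, hψ, hlh]
  · refine (cancel_mono (Spec.map ep.hom)).mp (spec_hom_ext c hc fun j => ?_)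
    have hnu : n ≫ u j = r j := by
      have h3 : u j = a ≫ Spec.map (cC.ι.app j).right ≫ (V j).left.isoSpec.inv := by
        rw [reassoc_of% (ha j)]; simp
      rw [h3, ← Category.assoc, show n ≫ a = s.fst from hn₁]
    have hl' : (l ≫ Spec.map ep.inv) ≫ Spec.map ep.hom ≫ Spec.map (c.ι.app j).right = m j := by
      rw [Category.assoc, ← Spec.map_comp_assoc, ep.hom_inv_id, Spec.map_id, Category.id_comp, hl]
    rw [Category.assoc, Category.assoc, hl']
    refine (cancel_mono (eV j).inv.left).mp (pullback.hom_ext ?_ ?_)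
    · simp only [m, Category.assoc, reassoc_of% (hinvhom j)]
      refine Eq.trans ?_ (pullback.lift_fst _ _ _).symm
      simpa [u] using hnu
    · simp only [m, Category.assoc, reassoc_of% (hinvhom j)]
      refine Eq.trans ?_ (pullback.lift_snd _ _ _).symm
      simp only [hinv, spec_ι_hom]
      rw [← Spec.map_comp, hep]
      exact hn₂

end Groth.Agent.ProEtLib
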